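import Mathlib

/-!
Counting conjugacy classes by the largest prime dividing the order of their elements: if `p ^ 2` divides no
element order, the classes of elements whose order has largest prime divisor `p` correspond to the pairs
consisting of a class of elements `y` of order `p` and a class in the centraliser of `y` of elements whose
order has only prime divisors below `p`.
-/

set_option autoImplicit false

namespace Cfsg.Agent.H54.Classes

variable {G : Type*} [Group G]

/-- `p` is the largest prime divisor of the order of `x`. -/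
def IsTop (p : ℕ) (x : G) : Prop :=
  p ∣ orderOf x ∧ ∀ q : ℕ, q.Prime → q ∣ orderOf x → q ≤ p

/-- All prime divisors of the order of `x` are below `p`. -/
def IsLow (p : ℕ) (x : G) : Prop :=
  ∀ q : ℕ, q.Prime → q ∣ orderOf x → q < p

/-- The number of classes of elements with largest prime divisor `p`. -/
noncomputable def topCount (G : Type*) [Group G] (p : ℕ) : ℕ :=
  Nat.card {c : ConjClasses G // ∃ x, ConjClasses.mk x = c ∧ IsTop p x}

/-- The number of classes of elements with prime divisors below `p`. -/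
noncomputable def lowCount (G : Type*) [Group G] (p : ℕ) : ℕ :=
  Nat.card {c : ConjClasses G // ∃ x, ConjClasses.mk x = c ∧ IsLow p x}

theorem orderOf_eq_of_isConj {x y : G} (h : IsConj x y) : orderOf x = orderOf y := by
  obtain ⟨g, rfl⟩ := isConj_iff.1 h
  exact (MulEquiv.orderOf_eq (MulAut.conj g) x).symm

theorem IsTop.of_isConj {p : ℕ} {x y : G} (h : IsConj x y) (hx : IsTop p x) : IsTop p y := by
  unfold IsTop at hx ⊢
  rwa [← orderOf_eq_of_isConj h]

theorem IsLow.of_isConj {p : ℕ} {x y : G} (h : IsConj x y) (hx : IsLow p x) : IsLow p y := by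
  unfold IsLow at hx ⊢
  rwa [← orderOf_eq_of_isConj h]

/-- The classes are split by the largest prime divisor. -/
theorem card_classes [Finite G] (L : Finset ℕ) (hLp : ∀ p ∈ L, p.Prime)
    (hL : ∀ p : ℕ, p.Prime → p ∣ Nat.card G → p ∈ L) :
    Nat.card (ConjClasses G) = 1 + ∑ p ∈ L, topCount G p := by
  classical
  haveI : Fintype (ConjClasses G) := Fintype.ofFinite _
  set f : ConjClasses G → ℕ := fun c => (orderOf c.out).primeFactors.sup id with hf
  have hpos : ∀ x : G, orderOf x ≠ 0 := fun x => (orderOf_pos x).ne'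
  have hout : ∀ c : ConjClasses G, ConjClasses.mk c.out = c := fun c => Quotient.out_eq c
  have hfib : ∀ p : ℕ, p.Prime → ∀ c, f c = p ↔ ∃ x, ConjClasses.mk x = c ∧ IsTop p x := by
    intro p hp c
    constructor
    · intro e
      refine ⟨c.out, hout c, ?_, fun q hq hdvd => e ▸
        Finset.le_sup (f := id) (Nat.mem_primeFactors.2 ⟨hq, hdvd, hpos _⟩)⟩
      have hne : (orderOf c.out).primeFactors.Nonempty := by
        by_contra h
        rw [Finset.not_nonempty_iff_eq_empty] at h
        rw [hf] at e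
        simp [h] at e
        exact hp.ne_zero e.symm
      obtain ⟨q, hq, hsup⟩ := Finset.exists_mem_eq_sup _ hne id
      rw [show f c = q from hsup] at e
      exact e ▸ Nat.dvd_of_mem_primeFactors hq
    · rintro ⟨x, hx, ht⟩
      have ht' : IsTop p c.out := ht.of_isConj (ConjClasses.mk_eq_mk_iff_isConj.1 (hx.trans (hout c).symm))
      refine le_antisymm (Finset.sup_le fun q hq => ?_) ?_
      · exact ht'.2 q (Nat.prime_of_mem_primeFactors hq) (Nat.dvd_of_mem_primeFactors hq)
      · exact Finset.le_sup (f := id) (Nat.mem_primeFactors.2 ⟨hp, ht'.1, hpos _⟩)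
  have hzero : ∀ c, f c = 0 ↔ c = ConjClasses.mk 1 := by
    intro c
    constructor
    · intro e
      have h1 : orderOf c.out = 1 := by
        by_contra h1
        obtain ⟨q, hq, hqd⟩ := Nat.exists_prime_and_dvd h1
        have hle := Finset.le_sup (f := id) (Nat.mem_primeFactors.2 ⟨hq, hqd, hpos c.out⟩)
        rw [show (orderOf c.out).primeFactors.sup id = 0 from e, id_eq] at hle
        exact hq.ne_zero (Nat.le_zero.1 hle)
      rw [← hout c, orderOf_eq_one_iff.1 h1]
    · intro e
      have h := orderOf_eq_of_isConj (ConjClasses.mk_eq_mk_iff_isConj.1 ((hout c).trans e))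
      show (orderOf c.out).primeFactors.sup id = 0
      rw [h, orderOf_one, Nat.primeFactors_one, Finset.sup_empty]
      rfl
  have hmaps : Set.MapsTo f (Finset.univ : Finset (ConjClasses G)) ((insert 0 L : Finset ℕ) : Set ℕ) := by
    intro c _
    rcases (orderOf c.out).primeFactors.eq_empty_or_nonempty with h | h
    · simp [hf, h]
    · obtain ⟨q, hq, hsup⟩ := Finset.exists_mem_eq_sup _ h id
      show f c ∈ ((insert 0 L : Finset ℕ) : Set ℕ)
      rw [show f c = q from hsup, Finset.mem_coe, Finset.mem_insert]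
      exact Or.inr (hL q (Nat.prime_of_mem_primeFactors hq)
        ((Nat.dvd_of_mem_primeFactors hq).trans (orderOf_dvd_natCard _)))
  rw [Nat.card_eq_fintype_card, ← Finset.card_univ, Finset.card_eq_sum_card_fiberwise hmaps,
    Finset.sum_insert fun h => (hLp 0 h).ne_zero rfl]
  congr 1
  · rw [Finset.card_eq_one]
    refine ⟨ConjClasses.mk 1, ?_⟩
    ext c
    simp [hzero]
  · refine Finset.sum_congr rfl fun p hp => ?_
    unfold topCount
    rw [Nat.card_eq_fintype_card, Fintype.card_subtype]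
    congr 1
    ext c
    simp [hfib p (hLp p hp)]

theorem Commute.orderOf_mul_prime {p : ℕ} {y u : G} (hp : p.Prime) (hc : Commute y u)
    (hy : orderOf y = p) (hu : IsLow p u) : orderOf (y * u) = p * orderOf u := by
  rw [hc.orderOf_mul_eq_mul_orderOf_of_coprime ?_, hy]
  rw [hy, Nat.Prime.coprime_iff_not_dvd hp]
  exact fun h => lt_irrefl _ (hu p hp h)

theorem isTop_mul {p : ℕ} {y u : G} (hp : p.Prime) (hc : Commute y u) (hy : orderOf y = p)
    (hu : IsLow p u) : IsTop p (y * u) := by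
  unfold IsTop
  rw [Commute.orderOf_mul_prime hp hc hy hu]
  refine ⟨dvd_mul_right _ _, fun q hq h => ?_⟩
  rcases hq.dvd_mul.1 h with h | h
  · exact Nat.le_of_dvd hp.pos h
  · exact (hu q hq h).le

/-- The decomposition is unique. -/
theorem mul_unique [Finite G] {p : ℕ} {y u y' u' : G} (hp : p.Prime) (hc : Commute y u)
    (hc' : Commute y' u') (hy : orderOf y = p) (hy' : orderOf y' = p) (hu : IsLow p u)
    (hu' : IsLow p u') (e : y * u = y' * u') : y = y' ∧ u = u' := by
  have ho : orderOf u = orderOf u' := by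
    have := (Commute.orderOf_mul_prime hp hc hy hu).symm.trans
      (e ▸ Commute.orderOf_mul_prime hp hc' hy' hu')
    exact Nat.eq_of_mul_eq_mul_left hp.pos this
  have hcop : Nat.Coprime p (orderOf u) :=
    (Nat.Prime.coprime_iff_not_dvd hp).2 fun h => lt_irrefl _ (hu p hp h)
  obtain ⟨k, hk1, hk0⟩ := Nat.chineseRemainder hcop 1 0
  have key : ∀ a b : G, Commute a b → orderOf a = p → orderOf b = orderOf u → (a * b) ^ k = a := by
    intro a b hab ha hb
    have hbk : b ^ k = 1 := orderOf_dvd_iff_pow_eq_one.1 (by rw [hb]; exact Nat.modEq_zero_iff_dvd.1 hk0)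
    rw [hab.mul_pow, hbk, mul_one]
    calc a ^ k = a ^ 1 := pow_eq_pow_iff_modEq.2 (ha.symm ▸ hk1)
      _ = a := pow_one a
  have hyy : y = y' := by rw [← key y u hc hy rfl, ← key y' u' hc' hy' ho.symm, e]
  subst hyy
  exact ⟨rfl, mul_left_cancel e⟩

/-- Existence of the decomposition when `p ^ 2` does not divide the order. -/
theorem exists_split [Finite G] {p : ℕ} {x : G} (hp : p.Prime) (hx : IsTop p x)
    (h2 : ¬ p ^ 2 ∣ orderOf x) :
    ∃ y u : G, Commute y u ∧ orderOf y = p ∧ IsLow p u ∧ x = y * u := by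
  obtain ⟨m, hm⟩ := hx.1
  have hpm : ¬ p ∣ m := fun h => h2 (by rw [hm, pow_two]; exact Nat.mul_dvd_mul_left p h)
  have hm0 : m ≠ 0 := fun e => (orderOf_pos x).ne' (by rw [hm, e, mul_zero])
  obtain ⟨k, hk1, hk0⟩ := Nat.chineseRemainder ((Nat.Prime.coprime_iff_not_dvd hp).2 hpm) 1 0
  obtain ⟨l, rfl⟩ : m ∣ k := Nat.modEq_zero_iff_dvd.1 hk0
  have hy : orderOf (x ^ (m * l)) = p := by
    have hne : x ^ (m * l) ≠ 1 := fun e => by
      have h := orderOf_dvd_iff_pow_eq_one.2 e
      rw [hm] at h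
      have : p ∣ m * l := (dvd_mul_right p m).trans h
      have h1 : (m * l) % p = 1 % p := hk1
      rw [Nat.dvd_iff_mod_eq_zero.1 this, Nat.mod_eq_of_lt hp.one_lt] at h1
      exact zero_ne_one h1
    haveI := Fact.mk hp
    refine orderOf_eq_prime ?_ hne
    rw [← pow_mul]
    exact orderOf_dvd_iff_pow_eq_one.1 ⟨l, by rw [hm]; ring⟩
  refine ⟨x ^ (m * l), (x ^ (m * l))⁻¹ * x, ?_, hy, ?_, by group⟩
  · exact ((Commute.refl _).inv_right).mul_right ((Commute.refl x).pow_left _)
  · intro q hq hqd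
    have hum : ((x ^ (m * l))⁻¹ * x) ^ m = 1 := by
      rw [(((Commute.refl x).pow_left _).inv_left).mul_pow, inv_pow, ← pow_mul, inv_mul_eq_one]
      refine pow_eq_pow_iff_modEq.2 ?_
      rw [hm]
      have : Nat.ModEq (p * m) (m * (m * l)) (m * 1) := by
        rw [Nat.mul_comm p m]; exact hk1.mul_left' m
      calc Nat.ModEq (p * m) (m * l * m) (m * (m * l)) := by rw [Nat.mul_comm (m * l) m]
        _ ≡ m * 1 [MOD p * m] := this
        _ = m := mul_one m
    have hqm : q ∣ m := hqd.trans (orderOf_dvd_iff_pow_eq_one.2 hum)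
    refine lt_of_le_of_ne (hx.2 q hq ?_) fun e => hpm (e ▸ hqm)
    rw [hm]
    exact hqm.mul_left p

/-- The classes with largest prime divisor `p`. -/
theorem topCount_eq [Finite G] {p : ℕ} (hp : p.Prime) (h2 : ∀ x : G, IsTop p x → ¬ p ^ 2 ∣ orderOf x)
    {ι : Type*} [Fintype ι] (y : ι → G) (hy : ∀ i, orderOf (y i) = p)
    (hinj : ∀ i j, IsConj (y i) (y j) → i = j)
    (hcov : ∀ w : G, orderOf w = p → ∃ i, IsConj (y i) w) :
    topCount G p = ∑ i, lowCount (Subgroup.centralizer ({y i} : Set G)) p := by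
  classical
  set T : ι → Type _ := fun i =>
    {d : ConjClasses (Subgroup.centralizer ({y i} : Set G)) // ∃ u, ConjClasses.mk u = d ∧ IsLow p u}
  have hcom : ∀ i (u : Subgroup.centralizer ({y i} : Set G)), Commute (y i) (u : G) := fun i u =>
    (Subgroup.mem_centralizer_singleton_iff.1 u.2).symm
  have hlowG : ∀ {i} {u : Subgroup.centralizer ({y i} : Set G)}, IsLow p u → IsLow p (u : G) := by
    intro i u h
    unfold IsLow at h ⊢
    rwa [Subgroup.orderOf_coe]
  have hsplit : ∀ c : {c : ConjClasses G // ∃ x, ConjClasses.mk x = c ∧ IsTop p x},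
      ∃ t : Σ i, T i, ∀ u, ConjClasses.mk u = t.2.1 → ConjClasses.mk (y t.1 * (u : G)) = c.1 := by
    rintro ⟨c, x, rfl, hx⟩
    obtain ⟨a, b, hab, ha, hb, rfl⟩ := exists_split hp hx (h2 x hx)
    obtain ⟨i, hi⟩ := hcov a ha
    obtain ⟨g, hg⟩ := isConj_iff.1 hi
    subst hg
    set v : G := g⁻¹ * b * g with hv
    have hvC : v ∈ Subgroup.centralizer ({y i} : Set G) := by
      rw [Subgroup.mem_centralizer_singleton_iff]
      calc v * y i = g⁻¹ * (b * (g * y i * g⁻¹)) * g := by rw [hv]; group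
        _ = g⁻¹ * (g * y i * g⁻¹ * b) * g := by rw [hab.eq]
        _ = y i * v := by rw [hv]; group
    have hlow : IsLow p (⟨v, hvC⟩ : Subgroup.centralizer ({y i} : Set G)) := by
      have h := hb.of_isConj (y := v) (isConj_iff.2 ⟨g⁻¹, by rw [hv]; group⟩)
      unfold IsLow at h ⊢
      rwa [← Subgroup.orderOf_coe]
    refine ⟨⟨i, ConjClasses.mk ⟨v, hvC⟩, _, rfl, hlow⟩, fun u hu => ?_⟩
    obtain ⟨k, hk⟩ := isConj_iff.1 (ConjClasses.mk_eq_mk_iff_isConj.1 hu)
    have hk' : (k : G) * u * (k : G)⁻¹ = v := by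
      simpa using congrArg Subtype.val hk
    refine ConjClasses.mk_eq_mk_iff_isConj.2 (isConj_iff.2 ⟨g * k, ?_⟩)
    calc g * k * (y i * u) * (g * (k : G))⁻¹
        = g * ((k : G) * y i * (k : G)⁻¹) * g⁻¹ * (g * ((k : G) * u * (k : G)⁻¹) * g⁻¹) := by group
      _ = g * y i * g⁻¹ * b := by
          rw [hk', ← (hcom i k).eq, show g * v * g⁻¹ = b from
            show g * (g⁻¹ * b * g) * g⁻¹ = b by group]
          group
  choose Φ hΦ using hsplit
  have hbij : Function.Bijective Φ := by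
    constructor
    · intro c c' e
      obtain ⟨u, hu, -⟩ := (Φ c).2.2
      refine Subtype.ext ?_
      rw [← hΦ c u hu]
      revert hu u
      rw [e]
      exact fun u hu => hΦ c' u hu
    · rintro ⟨i, d, u, rfl, hu⟩
      refine ⟨⟨ConjClasses.mk (y i * u), _, rfl, isTop_mul hp (hcom i u) (hy i) (hlowG hu)⟩, ?_⟩
      set c : {c : ConjClasses G // ∃ x, ConjClasses.mk x = c ∧ IsTop p x} :=
        ⟨ConjClasses.mk (y i * u), _, rfl, isTop_mul hp (hcom i u) (hy i) (hlowG hu)⟩
      obtain ⟨v, hv, hvlow⟩ := (Φ c).2.2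
      have he := hΦ c v hv
      obtain ⟨g, hg⟩ := isConj_iff.1 (ConjClasses.mk_eq_mk_iff_isConj.1 he)
      obtain ⟨h1, h2⟩ := mul_unique hp
        (show Commute (g * y (Φ c).1 * g⁻¹) (g * v * g⁻¹) from
          (hcom (Φ c).1 v).map (MulAut.conj g).toMonoidHom)
        (hcom i u) ((orderOf_eq_of_isConj (isConj_iff.2 ⟨g, rfl⟩)).symm.trans (hy _)) (hy i)
        ((hlowG hvlow).of_isConj (isConj_iff.2 ⟨g, rfl⟩)) (hlowG hu) (by rw [← hg]; group)
      have hi : (Φ c).1 = i := hinj _ _ (isConj_iff.2 ⟨g, h1⟩)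
      generalize hΦc : Φ c = t at v hv hvlow h1 h2 hi ⊢
      obtain ⟨j, d', hd'⟩ := t
      dsimp only at hi h1 h2 hv ⊢
      subst hi
      have hgC : g ∈ Subgroup.centralizer ({y j} : Set G) :=
        Subgroup.mem_centralizer_singleton_iff.2 (mul_inv_eq_iff_eq_mul.1 h1)
      exact Sigma.ext rfl (heq_of_eq (Subtype.ext (hv.symm.trans
        (ConjClasses.mk_eq_mk_iff_isConj.2 (isConj_iff.2 ⟨⟨g, hgC⟩, Subtype.ext h2⟩)))))
  unfold topCount lowCount
  rw [Nat.card_eq_of_bijective Φ hbij, Nat.card_sigma]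

/-- If all prime divisors of the group order are below `p`, all classes count. -/
theorem lowCount_eq_card [Finite G] {p : ℕ} (h : ∀ q : ℕ, q.Prime → q ∣ Nat.card G → q < p) :
    lowCount G p = Nat.card (ConjClasses G) := by
  unfold lowCount
  refine Nat.card_congr (Equiv.subtypeUnivEquiv fun c => ?_)
  obtain ⟨x, rfl⟩ := ConjClasses.exists_rep c
  exact ⟨x, rfl, fun q hq hd => h q hq (hd.trans (orderOf_dvd_natCard x))⟩

theorem lowCount_congr {H : Type*} [Group H] {p : ℕ} (e : G ≃* H) : lowCount G p = lowCount H p := by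
  unfold lowCount
  refine Nat.card_eq_of_bijective
    (fun c => ⟨ConjClasses.map e.toMonoidHom c.1, ?_⟩) ⟨fun a b hab => ?_, fun d => ?_⟩
  · obtain ⟨x, hx, hlow⟩ := c.2
    exact ⟨e x, by rw [← hx]; rfl, fun q hq hd => hlow q hq (by rwa [e.orderOf_eq] at hd)⟩
  · obtain ⟨⟨a, ha⟩, ⟨b, hb⟩⟩ := a, b
    obtain ⟨x, rfl⟩ := ConjClasses.exists_rep a
    obtain ⟨y, rfl⟩ := ConjClasses.exists_rep b
    have := ConjClasses.mk_eq_mk_iff_isConj.1 (congrArg Subtype.val hab)
    refine Subtype.ext (ConjClasses.mk_eq_mk_iff_isConj.2 ?_)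
    have h' := e.symm.toMonoidHom.map_isConj this
    simpa using h'
  · obtain ⟨d, x, rfl, hx⟩ := d
    refine ⟨⟨ConjClasses.mk (e.symm x), _, rfl, fun q hq hd => hx q hq (by
      rwa [e.symm.orderOf_eq] at hd)⟩, Subtype.ext ?_⟩
    show ConjClasses.mk (e (e.symm x)) = _
    rw [e.apply_symm_apply]

/-- An abelian factor of order `p` does not matter. -/
theorem lowCount_prod {A J : Type*} [CommGroup A] [Finite A] [Group J] {p : ℕ} (hp : p.Prime)
    (hA : Nat.card A = p) : lowCount (A × J) p = lowCount J p := by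
  unfold lowCount
  have hone : ∀ a : A × J, IsLow p a → a.1 = 1 := by
    intro a ha
    by_contra h1
    haveI := Fact.mk hp
    have hpd : orderOf a.1 = p := orderOf_eq_prime (hA ▸ pow_card_eq_one') h1
    exact lt_irrefl _ (ha p hp (by rw [Prod.orderOf, hpd]; exact Nat.dvd_lcm_left _ _))
  have hlow : ∀ j : J, IsLow p ((1, j) : A × J) ↔ IsLow p j := fun j => by
    unfold IsLow
    rw [Prod.orderOf, orderOf_one, Nat.lcm_one_left]
  symm
  refine Nat.card_eq_of_bijective
    (fun c => ⟨ConjClasses.map (MonoidHom.inr A J) c.1, ?_⟩) ⟨fun a b hab => ?_, fun d => ?_⟩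
  · obtain ⟨x, hx, hl⟩ := c.2
    exact ⟨(1, x), by rw [← hx]; rfl, (hlow x).2 hl⟩
  · obtain ⟨⟨a, ha⟩, ⟨b, hb⟩⟩ := a, b
    obtain ⟨x, rfl⟩ := ConjClasses.exists_rep a
    obtain ⟨y, rfl⟩ := ConjClasses.exists_rep b
    have h := ConjClasses.mk_eq_mk_iff_isConj.1 (congrArg Subtype.val hab)
    exact Subtype.ext (ConjClasses.mk_eq_mk_iff_isConj.2 ((MonoidHom.snd A J).map_isConj h))
  · obtain ⟨d, ⟨a, x⟩, rfl, hx⟩ := d
    obtain rfl : a = 1 := hone _ hx
    exact ⟨⟨ConjClasses.mk x, x, rfl, (hlow x).1 hx⟩, rfl⟩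

end Cfsg.Agent.H54.Classes
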