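import Cfsg.Agent.H54.JFour.Classes.Space
import Cfsg.Agent.H54.JFour.Classes.Count

/-!
The classes of a group of order 1344 acting as the full linear group on a normal elementary abelian
subgroup of order 8, when the involutions outside it have small centralisers.
-/

set_option autoImplicit false

namespace Cfsg.Agent.H54.Classes

open Subgroup Matrix

variable {J : Type*} [Group J]

/-- The hypotheses. -/
structure EightData (J : Type*) [Group J] (E F : Subgroup J) (z u : J) : Prop where
  sq : ∀ a ∈ E, a * a = 1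
  cardE : Nat.card E = 8
  cardJ : Nat.card J = 1344
  self : ∀ g, (∀ a ∈ E, g * a = a * g) → g ∈ E
  z_mem : z ∈ E
  z_ne : z ≠ 1
  le : E ≤ F
  cardF : Nat.card F = 32
  comm : ∀ a ∈ F, ∀ b ∈ F, a * b * a⁻¹ * b⁻¹ = 1 ∨ a * b * a⁻¹ * b⁻¹ = z
  u_mem : u ∈ F
  u_not : u ∉ E
  u_sq : u * u = 1
  small : Nat.card (centralizer ({u} : Set J)) ≤ 16

def matU : Mat := !![1, 0, 1; 0, 1, 0; 0, 0, 1]
def matT : Mat := !![0, 0, 1; 1, 0, 0; 0, 1, 0]
def matV : Mat := !![1, 1, 0; 0, 1, 1; 0, 0, 1]
def matS : Mat := !![0, 0, 1; 1, 0, 1; 0, 1, 0]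

namespace Coord

variable {E : Subgroup J} (c : Coord E)

theorem ι_zero : c.ι 0 = 1 := by
  have := c.add 0 0
  rw [add_zero] at this
  exact left_eq_mul.1 this

theorem mulVec_inj (g : J) : Function.Injective fun v => c.π g *ᵥ v := by
  intro v w h
  have h' : g * c.ι v * g⁻¹ = g * c.ι w * g⁻¹ := by
    rw [c.conj, c.conj]; exact congrArg c.ι h
  exact c.inj (mul_left_cancel (mul_right_cancel h'))

theorem det_ne (g : J) : (c.π g).det ≠ 0 := by
  have h : c.π g * c.π g⁻¹ = 1 := by rw [← map_mul, mul_inv_cancel, map_one]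
  exact (isUnit_det_of_right_inverse h).ne_zero

theorem comm_iff (g : J) (v : Vec) : g * c.ι v = c.ι v * g ↔ c.π g *ᵥ v = v := by
  rw [← mul_inv_eq_iff_eq_mul, c.conj]
  exact c.inj.eq_iff

end Coord

namespace EightData

variable {E F : Subgroup J} {z u : J} (h : EightData J E F z u) (c : Coord E)
include h

theorem finite : Finite J := Nat.finite_of_card_ne_zero (by rw [h.cardJ]; norm_num)

theorem ker_eq : ∀ g, c.π g = 1 ↔ g ∈ E := by
  intro g
  constructor
  · intro hg
    refine h.self g fun a ha => ?_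
    obtain ⟨v, rfl⟩ := c.surj a ha
    rw [c.comm_iff, hg, one_mulVec]
  · intro hg
    refine Matrix.ext_of_mulVec_single fun i => ?_
    rw [one_mulVec, ← c.comm_iff]
    have hcomm : ∀ a ∈ E, ∀ b ∈ E, a * b = b * a := fun a ha b hb => by
      calc a * b = (a * b)⁻¹ := (inv_eq_of_mul_eq_one_right (h.sq _ (mul_mem ha hb))).symm
        _ = b * a := by
          rw [_root_.mul_inv_rev, inv_eq_of_mul_eq_one_right (h.sq a ha),
            inv_eq_of_mul_eq_one_right (h.sq b hb)]
    exact hcomm g hg _ (c.mem _)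

theorem fibre {g k : J} : c.π g = c.π k ↔ g⁻¹ * k ∈ E := by
  rw [← h.ker_eq c, map_mul]
  have hl : c.π g⁻¹ * c.π g = 1 := by rw [← map_mul, inv_mul_cancel, map_one]
  have hr : c.π g * c.π g⁻¹ = 1 := by rw [← map_mul, mul_inv_cancel, map_one]
  refine ⟨fun e => by rw [← e, hl], fun e => ?_⟩
  calc c.π g = c.π g * (c.π g⁻¹ * c.π k) := by rw [e, mul_one]
    _ = c.π k := by rw [← mul_assoc, hr, one_mul]

theorem exists_lift (M : Mat) (hM : M.det ≠ 0) : ∃ g, c.π g = M := by
  classical
  haveI := h.finite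
  haveI := Fintype.ofFinite J
  have h168 : ((Finset.univ : Finset Mat).filter fun M => M.det ≠ 0).card = 168 := by decide +kernel
  have hsub : Finset.univ.image c.π ⊆ (Finset.univ : Finset Mat).filter fun M => M.det ≠ 0 := by
    intro M hM
    obtain ⟨g, -, rfl⟩ := Finset.mem_image.1 hM
    simp [c.det_ne g]
  have hcard : 168 ≤ (Finset.univ.image c.π).card := by
    have h1 := Finset.card_le_mul_card_image (f := c.π) (Finset.univ : Finset J) 8 fun M hM => by
      obtain ⟨g, -, rfl⟩ := Finset.mem_image.1 hM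
      rw [← Fintype.card_subtype, ← Nat.card_eq_fintype_card, ← h.cardE]
      refine Nat.card_le_card_of_injective (fun k => (⟨g⁻¹ * k.1, (h.fibre c).1 k.2.symm⟩ : E)) fun a b e => ?_
      exact Subtype.ext (mul_left_cancel (congrArg Subtype.val e :))
    rw [Finset.card_univ, ← Nat.card_eq_fintype_card, h.cardJ] at h1
    omega
  have := Finset.eq_of_subset_of_card_le hsub (by omega)
  have hm : M ∈ Finset.univ.image c.π := by rw [this]; simp [hM]
  obtain ⟨g, -, hg⟩ := Finset.mem_image.1 hm
  exact ⟨g, hg⟩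

/-- A centraliser is bounded by the matrices and vectors fixed. -/
theorem cent_le (x : J) :
    Nat.card (centralizer ({x} : Set J)) ≤
      Nat.card {M : Mat // M.det ≠ 0 ∧ M * c.π x = c.π x * M} * Nat.card {v : Vec // c.π x *ᵥ v = v} := by
  classical
  haveI := h.finite
  set C := centralizer ({x} : Set J)
  set f : C →* Mat := c.π.comp C.subtype
  set R := {M : Mat // M.det ≠ 0 ∧ M * c.π x = c.π x * M}
  set V := {v : Vec // c.π x *ᵥ v = v}
  have hmem : ∀ g : C, (f g).det ≠ 0 ∧ f g * c.π x = c.π x * f g := fun g =>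
    ⟨c.det_ne _, by
      show c.π g * c.π x = c.π x * c.π g
      rw [← map_mul, ← map_mul, mem_centralizer_singleton_iff.1 g.2]⟩
  let r : C → R := fun g => ⟨f g, hmem g⟩
  have hv : ∀ g : C, ∃ v : V, ((Function.invFun r (r g) : C) : J)⁻¹ * g = c.ι v.1 := by
    intro g
    set g0 : C := Function.invFun r (r g)
    have h0 : r g0 = r g := Function.invFun_eq ⟨g, rfl⟩
    have hE : (g0 : J)⁻¹ * g ∈ E := (h.fibre c).1 (congrArg Subtype.val h0)
    obtain ⟨v, hv⟩ := c.surj _ hE
    refine ⟨⟨v, ?_⟩, hv.symm⟩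
    rw [← c.comm_iff, hv]
    exact (mem_centralizer_singleton_iff.1 (mul_mem (inv_mem g0.2) g.2)).symm
  choose v hv using hv
  rw [← Nat.card_prod]
  refine Nat.card_le_card_of_injective (fun g => (r g, v g)) fun a b e => ?_
  obtain ⟨e1, e2⟩ := Prod.ext_iff.1 e
  refine Subtype.ext ?_
  have h1 := hv a
  rw [show r a = r b from e1, show v a = v b from e2, ← hv b] at h1
  exact mul_left_cancel h1

theorem cent_z_le (hz : c.ι ![1, 0, 0] = z) : Nat.card (centralizer ({z} : Set J)) ≤ 192 := by
  classical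
  haveI := h.finite
  haveI := Fintype.ofFinite J
  set s := (Finset.univ : Finset Mat).filter fun M => M.det ≠ 0 ∧ M *ᵥ ![1, 0, 0] = ![1, 0, 0]
  have h24 : s.card = 24 := by decide +kernel
  have h1 := Finset.card_le_mul_card_image (f := c.π)
    (Finset.univ.filter fun g : J => g * z = z * g) 8 fun M hM => by
      obtain ⟨g, -, rfl⟩ := Finset.mem_image.1 hM
      refine (Finset.card_le_card (Finset.monotone_filter_left _ (Finset.filter_subset _ _))).trans ?_
      rw [← Fintype.card_subtype, ← Nat.card_eq_fintype_card, ← h.cardE]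
      refine Nat.card_le_card_of_injective (fun k => (⟨g⁻¹ * k.1, (h.fibre c).1 k.2.symm⟩ : E))
        fun a b e => ?_
      exact Subtype.ext (mul_left_cancel (congrArg Subtype.val e :))
  have h2 : ((Finset.univ.filter fun g : J => g * z = z * g).image c.π).card ≤ s.card := by
    refine Finset.card_le_card fun M hM => ?_
    obtain ⟨g, hg, rfl⟩ := Finset.mem_image.1 hM
    simp only [Finset.mem_filter, Finset.mem_univ, true_and] at hg
    simp only [s, Finset.mem_filter, Finset.mem_univ, true_and]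
    refine ⟨c.det_ne g, ?_⟩
    rw [← c.comm_iff, hz, hg]
  rw [Nat.card_congr (Equiv.subtypeEquivRight (q := fun g : J => g * z = z * g) fun g =>
    mem_centralizer_singleton_iff), Nat.card_eq_fintype_card, Fintype.card_subtype]
  calc _ ≤ 8 * _ := h1
    _ ≤ 8 * 24 := by rw [← h24]; exact Nat.mul_le_mul_left 8 h2
    _ = 192 := by norm_num

end EightData

/-- An element mapping to a given matrix fixed by the `n`-th power, of order dividing `k`. -/
theorem pow_eq_one_of_mem {E : Subgroup J} (hsq : ∀ a ∈ E, a * a = 1) {g : J} {m : ℕ} (hg : g ^ m ∈ E) :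
    g ^ (2 * m) = 1 := by
  rw [mul_comm, pow_mul, pow_two]; exact hsq _ hg

end Cfsg.Agent.H54.Classes
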