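import Cfsg.Agent.H54.JFour.Classes.Tables

/-!
The group of order 1344 described by `EightData` has nine classes of elements of order prime to 7 and
eleven classes in all.
-/

set_option autoImplicit false

namespace Cfsg.Agent.H54.Classes

open Subgroup Matrix

variable {J : Type*} [Group J] {E F : Subgroup J} {z u : J}

/-- The index of a centraliser counts the conjugates. -/
theorem index_centralizer_eq (x : J) :
    (centralizer ({x} : Set J)).index = Nat.card {y : J // IsConj x y} := by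
  rw [Subgroup.index]
  let f : J ⧸ centralizer ({x} : Set J) → {y : J // IsConj x y} :=
    Quotient.lift (fun g : J => ⟨g * x * g⁻¹, isConj_iff.2 ⟨g, rfl⟩⟩) fun a b hab => by
      have h' := mem_centralizer_singleton_iff.1 (QuotientGroup.leftRel_apply.1 hab)
      refine Subtype.ext ?_
      calc a * x * a⁻¹ = a * (x * (a⁻¹ * b)) * b⁻¹ := by group
        _ = b * x * b⁻¹ := by rw [← h']; group
  refine Nat.card_eq_of_bijective f ⟨fun a b => ?_, fun ⟨y, hy⟩ => ?_⟩
  · induction a using QuotientGroup.induction_on with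
    | H a => induction b using QuotientGroup.induction_on with
      | H b =>
        intro e
        have e' : a * x * a⁻¹ = b * x * b⁻¹ := congrArg Subtype.val e
        refine QuotientGroup.eq.2 (mem_centralizer_singleton_iff.2 ?_)
        calc a⁻¹ * b * x = a⁻¹ * (b * x * b⁻¹) * b := by group
          _ = _ := by rw [← e']; group
  · obtain ⟨g, hg⟩ := isConj_iff.1 hy
    exact ⟨QuotientGroup.mk g, Subtype.ext hg⟩

namespace EightData

variable (h : EightData J E F z u) (c : Coord E)
include h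

theorem pi_E {a : J} (ha : a ∈ E) : c.π a = 1 := (h.ker_eq c a).2 ha

theorem z_u : z * u = u * z := by
  rcases h.comm u h.u_mem z (h.le h.z_mem) with e | e
  · exact (mul_inv_eq_iff_eq_mul.1 (mul_inv_eq_one.1 e)).symm
  · exfalso
    refine h.z_ne ?_
    have h1 : u * z * u⁻¹ = 1 := by
      calc u * z * u⁻¹ = u * z * u⁻¹ * z⁻¹ * z := by group
        _ = 1 := by rw [e, h.sq z h.z_mem]
    rwa [mul_inv_eq_one, mul_eq_left] at h1

theorem pz_mem (hz : c.ι ![1, 0, 0] = z) {g : J} : g ∈ F ↔ IsPz (c.π g) := by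
  classical
  haveI := h.finite
  haveI := Fintype.ofFinite J
  have hF : ∀ g ∈ F, IsPz (c.π g) := by
    intro g hg v
    rcases h.comm g hg (c.ι v) (h.le (c.mem v)) with e | e
    · left
      refine c.inj ?_
      rw [← c.conj]
      exact mul_inv_eq_one.1 e
    · right
      refine c.inj ?_
      have e' : g * c.ι v * g⁻¹ = z * c.ι v := mul_inv_eq_iff_eq_mul.1 e
      rw [← c.conj, e', ← hz, add_comm v, c.add]
  refine ⟨hF g, fun hg => ?_⟩
  set s := Finset.univ.filter fun k : J => IsPz (c.π k)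
  have hle : (Finset.univ.filter fun k : J => k ∈ F) ⊆ s := fun k hk => by
    simp only [Finset.mem_filter, Finset.mem_univ, true_and, s] at hk ⊢
    exact hF k hk
  have h32 : s.card ≤ 32 := by
    have h1 := Finset.card_le_mul_card_image (f := c.π) s 8 fun M hM => by
      obtain ⟨k, -, rfl⟩ := Finset.mem_image.1 hM
      refine (Finset.card_le_card (Finset.monotone_filter_left _ (Finset.filter_subset _ _))).trans ?_
      rw [← Fintype.card_subtype, ← Nat.card_eq_fintype_card, ← h.cardE]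
      refine Nat.card_le_card_of_injective (fun m => (⟨k⁻¹ * m.1, (h.fibre c).1 m.2.symm⟩ : E))
        fun a b e => ?_
      exact Subtype.ext (mul_left_cancel (congrArg Subtype.val e :))
    have h2 : (s.image c.π).card ≤ 4 := by
      rw [← card_pz.2]
      refine Finset.card_le_card fun M hM => ?_
      obtain ⟨k, hk, rfl⟩ := Finset.mem_image.1 hM
      simp only [Finset.mem_filter, Finset.mem_univ, true_and, s] at hk ⊢
      exact ⟨c.det_ne k, hk⟩
    omega
  have hFc : (Finset.univ.filter fun k : J => k ∈ F).card = 32 := by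
    rw [← Fintype.card_subtype, ← Nat.card_eq_fintype_card]; exact h.cardF
  have heq := Finset.eq_of_subset_of_card_le hle (by rw [hFc]; exact h32)
  have hm : g ∈ s := by simp [s, hg]
  rw [← heq] at hm
  simpa using hm

/-- Elements whose matrix commutes with that of `u` move `u` inside its coset by a vector of the plane. -/
theorem conj_u (hu : c.π u = matU) {g : J} (hg : c.π g * matU = matU * c.π g) :
    ∃ w : Vec, w 2 = 0 ∧ g * u * g⁻¹ = u * c.ι w := by
  have hπ : c.π (g * u) = c.π (u * g) := by rw [map_mul, map_mul, hu, hg]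
  obtain ⟨w, hw⟩ := c.surj (u⁻¹ * (g * u * g⁻¹)) (by
    rw [← h.fibre c, hu, map_mul, hπ, ← map_mul, mul_inv_cancel_right, hu])
  have hgu : g * u * g⁻¹ = u * c.ι w := by rw [hw]; group
  refine ⟨w, ?_, hgu⟩
  have hsq : u * c.ι w * (u * c.ι w) = 1 := by
    rw [← hgu]
    calc g * u * g⁻¹ * (g * u * g⁻¹) = g * (u * u) * g⁻¹ := by group
      _ = 1 := by rw [h.u_sq]; group
  have hfix : c.π u *ᵥ w = w := by
    rw [← c.comm_iff]
    have hui : u⁻¹ = u := inv_eq_of_mul_eq_one_right h.u_sq
    have hwi : (c.ι w)⁻¹ = c.ι w := inv_eq_of_mul_eq_one_right (h.sq _ (c.mem w))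
    have := inv_eq_of_mul_eq_one_right hsq
    rw [_root_.mul_inv_rev, hwi, hui] at this
    exact this.symm
  rw [hu] at hfix
  have key : ∀ w : Vec, matU *ᵥ w = w → w 2 = 0 := by decide +kernel
  exact key w hfix

set_option maxHeartbeats 400000 in
/-- Outside `F` the conjugate of `u` leaves its coset of `⟨z⟩`. -/
theorem moved (hz : c.ι ![1, 0, 0] = z) (hu : c.π u = matU) {g : J}
    (hg : c.π g * matU = matU * c.π g) (hgF : g ∉ F) {w : Vec} (hw : g * u * g⁻¹ = u * c.ι w) :
    w 1 = 1 := by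
  classical
  haveI := h.finite
  by_contra hw1
  have hw' : c.ι w = 1 ∨ c.ι w = z := by
    obtain ⟨w', hw'0, hw'e⟩ := h.conj_u c hu hg
    have hww : w = w' := c.inj (mul_left_cancel (hw.symm.trans hw'e))
    subst hww
    have key : ∀ w : Vec, w 2 = 0 → ¬ w 1 = 1 → w = 0 ∨ w = ![1, 0, 0] := by decide +kernel
    rcases key w hw'0 hw1 with e | e
    · left; rw [e, c.ι_zero]
    · right; rw [e, hz]
  -- every element over the centraliser of the matrix keeps `u` in its coset of `z`
  have hgC : c.π g ∈ centU := mem_centU.2 ⟨c.det_ne g, hg⟩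
  have hgi : c.π g⁻¹ ∈ centU := by
    refine mem_centU.2 ⟨c.det_ne _, ?_⟩
    have hl : c.π g⁻¹ * c.π g = 1 := by rw [← map_mul, inv_mul_cancel, map_one]
    have hr : c.π g * c.π g⁻¹ = 1 := by rw [← map_mul, mul_inv_cancel, map_one]
    calc c.π g⁻¹ * matU = c.π g⁻¹ * (matU * c.π g) * c.π g⁻¹ := by
          rw [mul_assoc, mul_assoc, hr, mul_one]
      _ = _ := by rw [← hg, ← mul_assoc, hl, one_mul]
  have hall : ∀ k : J, c.π k ∈ centU → k * u * k⁻¹ = u ∨ k * u * k⁻¹ = u * z := by
    intro k hk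
    have hFk : ∀ f ∈ F, f * u * f⁻¹ = u ∨ f * u * f⁻¹ = u * z := fun f hf => by
      rcases h.comm f hf u h.u_mem with e | e
      · exact Or.inl (mul_inv_eq_one.1 e)
      · exact Or.inr ((mul_inv_eq_iff_eq_mul.1 e).trans h.z_u)
    by_cases hkF : k ∈ F
    · exact hFk k hkF
    have hf : g⁻¹ * k ∈ F := (h.pz_mem c hz).2 (by
      rw [map_mul]
      exact centU_two _ hgC _ hgi _ hk (by rw [← map_mul, inv_mul_cancel, map_one])
        (fun e => hgF ((h.pz_mem c hz).2 e)) (fun e => hkF ((h.pz_mem c hz).2 e)))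
    have hgz : g * z * g⁻¹ = z := by
      rw [← hz, c.conj, centU_fix _ hgC]
    have hk' : k * u * k⁻¹ = g * (g⁻¹ * k * u * (g⁻¹ * k)⁻¹) * g⁻¹ := by group
    rcases hFk _ hf with e | e <;> rw [hk', e]
    · rcases hw' with e' | e' <;> rw [hw, e']
      · exact Or.inl (mul_one u)
      · exact Or.inr rfl
    · rw [show g * (u * z) * g⁻¹ = (g * u * g⁻¹) * (g * z * g⁻¹) by group, hgz]
      rcases hw' with e' | e' <;> rw [hw, e']
      · exact Or.inr (by rw [mul_one])
      · exact Or.inl (by rw [mul_assoc, h.sq z h.z_mem, mul_one])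
  -- hence the centraliser of `u` is too large
  set X := {k : J // c.π k ∈ centU}
  have h64 : 64 ≤ Nat.card X := by
    choose L hL using fun M : centU => h.exists_lift c M.1 (mem_centU.1 M.2).1
    have h1 := Nat.card_le_card_of_injective (fun p : centU × E => (⟨L p.1 * p.2, by
      rw [map_mul, hL, h.pi_E c p.2.2, mul_one]; exact p.1.2⟩ : X)) fun p q e => by
        have e' : L p.1 * (p.2 : J) = L q.1 * q.2 := congrArg Subtype.val e
        have hp : p.1 = q.1 := by
          have := congrArg c.π e'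
          rw [map_mul, map_mul, hL, hL, h.pi_E c p.2.2, h.pi_E c q.2.2, mul_one, mul_one] at this
          exact Subtype.ext this
        rw [hp] at e'
        exact Prod.ext hp (Subtype.ext (mul_left_cancel e'))
    rwa [Nat.card_prod, h.cardE, Nat.card_eq_finsetCard, card_centU] at h1
  set e : J := c.ι ![0, 0, 1]
  have hue : e * u * e⁻¹ = u * z := by
    have h1 : u * e * u⁻¹ = e * z := by
      show u * c.ι ![0, 0, 1] * u⁻¹ = c.ι ![0, 0, 1] * z
      rw [c.conj, hu, ← hz, ← c.add]; congr 1; decide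
    have hei : e⁻¹ = e := inv_eq_of_mul_eq_one_right (h.sq _ (c.mem _))
    calc e * u * e⁻¹ = (u * e * u⁻¹ * e⁻¹)⁻¹ * u := by group
      _ = (e * z * e⁻¹)⁻¹ * u := by rw [h1]
      _ = (e * z⁻¹ * e⁻¹) * u := by group
      _ = z * u := by
        rw [inv_eq_of_mul_eq_one_right (h.sq z h.z_mem)]
        congr 1
        show c.ι ![0, 0, 1] * z * (c.ι ![0, 0, 1])⁻¹ = z
        rw [← hz, ← c.add, add_comm, c.add, mul_inv_cancel_right]
      _ = u * z := h.z_u
  let adj : X → Bool × centralizer ({u} : Set J) := fun k =>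
    if hk : k.1 * u * k.1⁻¹ = u then (true, ⟨k.1, mem_centralizer_singleton_iff.2 (mul_inv_eq_iff_eq_mul.1 hk)⟩)
    else (false, ⟨k.1 * e, mem_centralizer_singleton_iff.2 (mul_inv_eq_iff_eq_mul.1 (by
      have h2 := (hall k.1 k.2).resolve_left hk
      have hkz : k.1 * z * k.1⁻¹ = z := by rw [← hz, c.conj, centU_fix _ k.2]
      calc k.1 * e * u * (k.1 * e)⁻¹ = k.1 * (e * u * e⁻¹) * k.1⁻¹ := by group
        _ = k.1 * u * k.1⁻¹ * (k.1 * z * k.1⁻¹) := by rw [hue]; group
        _ = u := by rw [h2, hkz, mul_assoc, h.sq z h.z_mem, mul_one]))⟩)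
  have hinj : Function.Injective adj := by
    intro a b hab
    by_cases ha : a.1 * u * a.1⁻¹ = u <;> by_cases hb : b.1 * u * b.1⁻¹ = u <;>
      simp only [adj, dif_pos, dif_neg, ha, hb, not_false_eq_true, Prod.mk.injEq, Bool.true_eq_false,
        Bool.false_eq_true, false_and, true_and, Subtype.mk.injEq] at hab
    · exact Subtype.ext hab
    · exact Subtype.ext (mul_right_cancel hab)
  have h2 := Nat.card_le_card_of_injective adj hinj
  rw [Nat.card_prod, Nat.card_eq_fintype_card (α := Bool), Fintype.card_bool] at h2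
  have := h.small
  omega

set_option maxHeartbeats 1600000 in
theorem card_classes (hnor : E.Normal) : Nat.card (ConjClasses J) = 11 ∧ lowCount J 5 = 9 := by
  classical
  haveI := hnor
  haveI := h.finite
  haveI := Fintype.ofFinite J
  obtain ⟨c, hz, hu⟩ := exists_coord E h.sq h.cardE h.z_mem h.z_ne h.z_u (u := u)
    (fun a ha => by
      rcases h.comm u h.u_mem a (h.le ha) with e | e
      · exact Or.inl (mul_inv_eq_one.1 e)
      · refine Or.inr ?_
        rw [mul_inv_eq_iff_eq_mul.1 e]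
        calc z * a = (z * a)⁻¹ := (inv_eq_of_mul_eq_one_right (h.sq _ (mul_mem h.z_mem ha))).symm
          _ = a * z := by
            rw [_root_.mul_inv_rev, inv_eq_of_mul_eq_one_right (h.sq a ha),
              inv_eq_of_mul_eq_one_right (h.sq z h.z_mem)])
    (by
      by_contra hall
      push Not at hall
      exact h.u_not (h.self u fun a ha => mul_inv_eq_iff_eq_mul.1 (hall a ha)))
  replace hu : c.π u = matU := hu
  obtain ⟨t₀, ht₀⟩ := h.exists_lift c matT (by decide +kernel)
  obtain ⟨v, hv⟩ := h.exists_lift c matV (by decide +kernel)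
  obtain ⟨s₀, hs₀⟩ := h.exists_lift c matS (by decide +kernel)
  set t := t₀ ^ 4
  set s := s₀ ^ 8
  set e : J := c.ι ![0, 0, 1]
  set h1 : J := c.ι ![0, 1, 0]
  set w : J := c.ι ![1, 1, 1]
  have hπE : ∀ x, c.π (c.ι x) = 1 := fun x => h.pi_E c (c.mem x)
  have hπt : c.π t = matT := by
    show c.π (t₀ ^ 4) = matT; rw [map_pow, ht₀]; decide +kernel
  have hπs : c.π s = matS := by
    show c.π (s₀ ^ 8) = matS; rw [map_pow, hs₀]; decide +kernel
  have ht3 : t ^ 3 = 1 := by
    have h6 := pow_eq_one_of_mem h.sq ((h.ker_eq c (t₀ ^ 3)).1 (by rw [map_pow, ht₀]; decide +kernel))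
    show (t₀ ^ 4) ^ 3 = 1
    rw [← pow_mul, show 4 * 3 = 2 * 3 * 2 from rfl, pow_mul, h6, one_pow]
  have hs7 : s ^ 7 = 1 := by
    have h14 := pow_eq_one_of_mem h.sq ((h.ker_eq c (s₀ ^ 7)).1 (by rw [map_pow, hs₀]; decide +kernel))
    show (s₀ ^ 8) ^ 7 = 1
    rw [← pow_mul, show 8 * 7 = 2 * 7 * 4 from rfl, pow_mul, h14, one_pow]
  set ue := u * e with hueDef
  set ueh := u * e * h1 with huehDef
  have hπue : c.π ue = matU := by rw [hueDef, map_mul, hu, hπE, mul_one]
  have hπueh : c.π ueh = matU := by rw [huehDef, map_mul, map_mul, hu, hπE, hπE, mul_one, mul_one]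
  have husq : ∀ x, u * c.ι x * (u * c.ι x) = c.ι (matU *ᵥ x + x) := fun x => by
    calc u * c.ι x * (u * c.ι x) = u * c.ι x * u⁻¹ * (u * u) * c.ι x := by group
      _ = c.ι (matU *ᵥ x + x) := by rw [c.conj, hu, h.u_sq, mul_one, ← c.add]
  have hne1 : ∀ x : Vec, x ≠ 0 → c.ι x ≠ 1 := fun x hx e1 => hx (c.inj (e1.trans c.ι_zero.symm))
  have hue2 : ue ^ 2 ≠ 1 := by
    rw [hueDef, pow_two, husq]; exact hne1 _ (by decide +kernel)
  have hueh2 : ueh ^ 2 ≠ 1 := by
    rw [huehDef, mul_assoc u, ← c.add, pow_two, husq]; exact hne1 _ (by decide +kernel)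
  have htw : Commute t w := (c.comm_iff t _).2 (by rw [hπt]; decide +kernel)
  have htw3 : (t * w) ^ 3 ≠ 1 := by
    rw [htw.mul_pow, ht3, one_mul, pow_succ, pow_two, h.sq w (c.mem _), one_mul]
    exact hne1 _ (by decide)
  let rep : Fin 11 → J := ![1, z, u, ue, ueh, t, t * w, v, v * e, s, s ^ 6]
  let inv : J → ℕ := fun x =>
    if c.π x = 1 then (if x = 1 then 0 else 1)
    else if c.π x ^ 2 = 1 then (if x ^ 2 = 1 then 2 else 3)
    else if c.π x ^ 3 = 1 then (if x ^ 3 = 1 then 5 else 6)
    else if c.π x ^ 4 = 1 then 7 else 9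
  have hinv : ∀ g x, inv (g * x * g⁻¹) = inv x := by
    intro g x
    have hn : ∀ n : ℕ, c.π (g * x * g⁻¹) ^ n = 1 ↔ c.π x ^ n = 1 := fun n => by
      rw [← map_pow, ← map_pow, conj_pow, h.ker_eq, h.ker_eq]
      exact ⟨fun e => by simpa [mul_assoc] using hnor.conj_mem _ e g⁻¹, fun e => hnor.conj_mem _ e g⟩
    have hn' : ∀ n : ℕ, (g * x * g⁻¹) ^ n = 1 ↔ x ^ n = 1 := fun n => by
      rw [conj_pow, mul_inv_eq_one, mul_eq_left]
    have p1 := hn 1
    have q1 := hn' 1
    simp only [pow_one] at p1 q1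
    simp only [inv, p1, q1, hn 2, hn 3, hn 4, hn' 2, hn' 3]
  have hU1 := pow_ne_U
  have hT1 := pow_ne_T
  have hV1 := pow_ne_V
  have hS1 := pow_ne_S
  have hS6 := pow_ne_S6
  have hπtw : c.π (t * w) = matT := by rw [map_mul, hπt, hπE, mul_one]
  have hπve : c.π (v * e) = matV := by rw [map_mul, hv, hπE, mul_one]
  have hπs6 : c.π (s ^ 6) = matS ^ 6 := by rw [map_pow, hπs]
  have hval : ∀ i, inv (rep i) = (![0, 1, 2, 3, 3, 5, 6, 7, 7, 9, 9] : Fin 11 → ℕ) i := by
    intro i
    fin_cases i <;> simp [rep, inv, hπue, hπueh, hu, h.pi_E c h.z_mem, h.z_ne, hπt, hπtw, hv, hπve, hπs,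
      hπs6, hU1, hT1, hV1, hS1, hS6, hue2, hueh2, ht3, htw3, map_one, pow_two u, h.u_sq]
  -- the three pairs
  have hA : ¬ IsConj ue ueh := by
    intro hc
    obtain ⟨g, hg⟩ := isConj_iff.1 hc
    have hgU : c.π g * matU = matU * c.π g := by
      have := congrArg c.π (mul_inv_eq_iff_eq_mul.1 hg)
      rwa [map_mul c.π g ue, map_mul c.π ueh g, hπue, hπueh] at this
    obtain ⟨x, hx2, hx⟩ := h.conj_u c hu hgU
    have e1 : u * c.ι (x + c.π g *ᵥ ![0, 0, 1]) = u * c.ι (![0, 0, 1] + ![0, 1, 0]) := by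
      rw [c.add, c.add, ← c.conj, ← mul_assoc, ← hx, ← mul_assoc u]
      show g * u * g⁻¹ * (g * e * g⁻¹) = ueh
      rw [← hg, hueDef]; group
    have e2 := congrFun (c.inj (mul_left_cancel e1)) 1
    simp only [Pi.add_apply] at e2
    by_cases hgF : g ∈ F
    · have hx1 : x 1 = 0 := by
        rcases h.comm g hgF u h.u_mem with e3 | e3
        · have : c.ι x = c.ι 0 := by
            rw [c.ι_zero]; exact left_eq_mul.1 ((mul_inv_eq_one.1 e3).symm.trans hx)
          rw [c.inj this]; rfl
        · have : c.ι x = c.ι ![1, 0, 0] := by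
            rw [hz]
            exact mul_left_cancel ((hx.symm.trans (mul_inv_eq_iff_eq_mul.1 e3)).trans h.z_u)
          rw [c.inj this]; rfl
      have hp := (h.pz_mem c hz).1 hgF ![0, 0, 1]
      rw [hx1] at e2
      rcases hp with e3 | e3 <;> rw [e3] at e2 <;> revert e2 <;> decide
    · rw [h.moved c hz hu hgU hgF hx,
        centU_out _ (mem_centU.2 ⟨c.det_ne g, hgU⟩) (fun e3 => hgF ((h.pz_mem c hz).2 e3))] at e2
      revert e2; decide
  have hB : ¬ IsConj v (v * e) := by
    intro hc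
    obtain ⟨g, hg⟩ := isConj_iff.1 hc
    have hgV : c.π g * matV = matV * c.π g := by
      have := congrArg c.π (mul_inv_eq_iff_eq_mul.1 hg)
      rwa [map_mul c.π g v, map_mul c.π (v * e) g, hv, hπve] at this
    obtain ⟨k, hk⟩ : ∃ k : Fin 4, c.π g = matV ^ (k : ℕ) := by
      rcases centV_pow _ (c.det_ne g) hgV with e1 | e1 | e1 | e1
      exacts [⟨0, by rw [e1]; rfl⟩, ⟨1, by rw [e1, show ((1 : Fin 4) : ℕ) = 1 from rfl, pow_one]⟩,
        ⟨2, e1⟩, ⟨3, e1⟩]
    obtain ⟨x, hx⟩ := c.surj ((v ^ (k : ℕ))⁻¹ * g) ((h.fibre c).1 (by rw [map_pow, hv, hk]))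
    have hvi : c.π v⁻¹ = matV ^ 3 := by
      have hl : c.π v⁻¹ * matV = 1 := by rw [← hv, ← map_mul, inv_mul_cancel, map_one]
      calc c.π v⁻¹ = c.π v⁻¹ * matV ^ 4 := by rw [hV1.2.2.2, mul_one]
        _ = matV ^ 3 := by rw [pow_succ', ← mul_assoc, hl, one_mul]
    have hg' : g = v ^ (k : ℕ) * c.ι x := by rw [hx]; group
    have hxi : (c.ι x)⁻¹ = c.ι x := inv_eq_of_mul_eq_one_right (h.sq _ (c.mem x))
    have e1 : g * v * g⁻¹ = v * c.ι (matV ^ (k : ℕ) *ᵥ (matV ^ 3 *ᵥ x + x)) := by
      calc g * v * g⁻¹ = v * ((v ^ (k : ℕ)) * ((v⁻¹ * c.ι x * v⁻¹⁻¹) * (c.ι x)⁻¹) * (v ^ (k : ℕ))⁻¹) := by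
            rw [hg']; group
        _ = _ := by rw [c.conj, hvi, hxi, ← c.add, c.conj, map_pow, hv]
    rw [hg] at e1
    exact notImV x k (c.inj (mul_left_cancel e1)).symm
  have hC : ¬ IsConj s (s ^ 6) := by
    intro hc
    obtain ⟨g, hg⟩ := isConj_iff.1 hc
    have := congrArg c.π (mul_inv_eq_iff_eq_mul.1 hg)
    rw [map_mul c.π g s, map_mul c.π (s ^ 6) g, hπs, hπs6] at this
    exact matS_real _ (c.det_ne g) this
  have hinj : ∀ i j, IsConj (rep i) (rep j) → i = j := by
    intro i j hij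
    obtain ⟨g, hg⟩ := isConj_iff.1 hij
    have he : inv (rep i) = inv (rep j) := by rw [← hg, hinv]
    rw [hval, hval] at he
    fin_cases i <;> fin_cases j <;> first
      | rfl
      | (exfalso; revert he; simp; done)
      | exact absurd hij hA
      | exact absurd hij.symm hA
      | exact absurd hij hB
      | exact absurd hij.symm hB
      | exact absurd hij hC
      | exact absurd hij.symm hC
  -- the classes fill the group
  set cl : Fin 11 → Finset J := fun i => Finset.univ.filter fun x => IsConj (rep i) x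
  have hsize : ∀ i, (cl i).card * Nat.card (centralizer ({rep i} : Set J)) = 1344 := by
    intro i
    rw [← h.cardJ, ← (centralizer ({rep i} : Set J)).card_mul_index, mul_comm]
    congr 1
    rw [← Nat.card_eq_finsetCard, index_centralizer_eq]
    exact Nat.card_congr (Equiv.subtypeEquivRight fun x => by simp [cl])
  have hb : ∀ i, Nat.card (centralizer ({rep i} : Set J)) ≤
      (![1344, 192, 16, 32, 32, 6, 6, 8, 8, 7, 7] : Fin 11 → ℕ) i := by
    have h32 := card_centU'
    have h6 := card_centT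
    have h8 := card_centV
    have h7 := card_centS
    have h7' := card_centS'
    have key : ∀ x M, c.π x = M → Nat.card (centralizer ({x} : Set J)) ≤
        Fintype.card {N : Mat // N.det ≠ 0 ∧ N * M = M * N} * Fintype.card {y : Vec // M *ᵥ y = y} := by
      intro x M hM
      subst hM
      rw [← Nat.card_eq_fintype_card, ← Nat.card_eq_fintype_card]
      exact h.cent_le c x
    intro i
    fin_cases i
    · exact (Nat.le_of_dvd (by rw [h.cardJ]; norm_num) (Subgroup.card_subgroup_dvd_card _)).trans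
        h.cardJ.le
    · exact h.cent_z_le c hz
    · exact h.small
    · exact (key _ _ hπue).trans h32.le
    · exact (key _ _ hπueh).trans h32.le
    · exact (key _ _ hπt).trans h6.le
    · exact (key _ _ hπtw).trans h6.le
    · exact (key _ _ hv).trans h8.le
    · exact (key _ _ hπve).trans h8.le
    · exact (key _ _ hπs).trans h7.le
    · exact (key _ _ hπs6).trans h7'.le
  have hdisj : ((Finset.univ : Finset (Fin 11)) : Set (Fin 11)).PairwiseDisjoint cl := by
    intro i _ j _ hij
    rw [Function.onFun, Finset.disjoint_left]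
    intro x hxi hxj
    simp only [cl, Finset.mem_filter, Finset.mem_univ, true_and] at hxi hxj
    exact hij (hinj i j (hxi.trans hxj.symm))
  have huniv : Finset.univ.biUnion cl = Finset.univ := by
    refine Finset.eq_univ_of_card _ (le_antisymm (Finset.card_le_univ _) ?_)
    rw [Finset.card_biUnion hdisj, ← Nat.card_eq_fintype_card, h.cardJ]
    have hlow : ∀ i, (![1, 7, 84, 42, 42, 224, 224, 168, 168, 192, 192] : Fin 11 → ℕ) i ≤ (cl i).card := by
      intro i
      have e1 := hsize i
      have e2 := hb i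
      have e3 := Nat.mul_le_mul_left (cl i).card e2
      rw [e1] at e3
      fin_cases i <;> simp at e3 ⊢ <;> omega
    exact le_of_eq_of_le (by decide +kernel) (Finset.sum_le_sum fun i _ => hlow i)
  have hbij : Function.Bijective fun i => ConjClasses.mk (rep i) := by
    refine ⟨fun i j e => hinj i j (ConjClasses.mk_eq_mk_iff_isConj.1 e), fun d => ?_⟩
    obtain ⟨x, rfl⟩ := ConjClasses.exists_rep d
    obtain ⟨i, -, hi⟩ := Finset.mem_biUnion.1 (huniv.ge (Finset.mem_univ x))
    exact ⟨i, ConjClasses.mk_eq_mk_iff_isConj.2 (Finset.mem_filter.1 hi).2⟩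
  refine ⟨by rw [← Nat.card_eq_of_bijective _ hbij, Nat.card_fin], ?_⟩
  have hord : ∀ i : Fin 11, IsLow 5 (rep i) ↔ (i : ℕ) < 9 := by
    have h24 : ∀ (x : J) (m : ℕ), m ∈ [1, 2, 3, 4] → c.π x ^ m = 1 → IsLow 5 x := by
      intro x m hm hx q hq hd
      have h2m := pow_eq_one_of_mem h.sq ((h.ker_eq c (x ^ m)).1 (by rw [map_pow, hx]))
      have hq' : q ∣ 2 * m := hd.trans (orderOf_dvd_of_pow_eq_one h2m)
      have := Nat.le_of_dvd (by rcases List.mem_cons.1 hm with e | hm <;> simp at * <;> omega) hq'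
      by_contra hge
      have hq57 : q = 5 ∨ q = 6 ∨ q = 7 ∨ q = 8 := by
        fin_cases hm <;> omega
      rcases hq57 with rfl | rfl | rfl | rfl
      · fin_cases hm <;> simp_all
      · exact absurd hq (by decide)
      · fin_cases hm <;> simp_all
      · exact absurd hq (by decide)
    have hnot : ∀ x : J, x ^ 7 = 1 → x ≠ 1 → ¬ IsLow 5 x := fun x h7 hx hl => by
      haveI : Fact (Nat.Prime 7) := ⟨by norm_num⟩
      have := hl 7 (by norm_num) (by rw [orderOf_eq_prime h7 hx])
      omega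
    intro i
    fin_cases i
    · exact iff_of_true (h24 _ 1 (by simp) (by simp [rep])) (by decide)
    · exact iff_of_true (h24 _ 1 (by simp) (by simp [rep, h.pi_E c h.z_mem])) (by decide)
    · exact iff_of_true (h24 _ 2 (by simp) (by simp [rep, hu, hU1])) (by decide)
    · exact iff_of_true (h24 _ 2 (by simp) (by simp [rep, hπue, hU1])) (by decide)
    · exact iff_of_true (h24 _ 2 (by simp) (by simp [rep, hπueh, hU1])) (by decide)
    · exact iff_of_true (h24 _ 3 (by simp) (by simp [rep, hπt, hT1])) (by decide)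
    · exact iff_of_true (h24 _ 3 (by simp) (by simp [rep, hπtw, hT1])) (by decide)
    · exact iff_of_true (h24 _ 4 (by simp) (by simp [rep, hv, hV1])) (by decide)
    · exact iff_of_true (h24 _ 4 (by simp) (by simp [rep, hπve, hV1])) (by decide)
    · exact iff_of_false (hnot _ hs7 fun e1 => hS1.1 (by rw [← hπs]; show c.π s = 1; rw [show s = 1 from e1, map_one]))
        (by decide)
    · refine iff_of_false (hnot _ ?_ fun e1 => hS6.1 ?_) (by decide)
      · show (s ^ 6) ^ 7 = 1
        rw [← pow_mul, show 6 * 7 = 7 * 6 from rfl, pow_mul, hs7, one_pow]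
      · rw [← hπs6, show s ^ 6 = 1 from e1, map_one]
  unfold lowCount
  rw [← Nat.card_congr (Equiv.subtypeEquiv (Equiv.ofBijective _ hbij)
    (p := fun i : Fin 11 => (i : ℕ) < 9) fun i => ⟨fun hi => ⟨rep i, rfl, (hord i).2 hi⟩,
      fun ⟨x, hx, hl⟩ => (hord i).1 (hl.of_isConj (ConjClasses.mk_eq_mk_iff_isConj.1 hx))⟩),
    Nat.card_eq_fintype_card]
  decide +kernel

end EightData

end Cfsg.Agent.H54.Classes
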