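import Mathlib

/-!
A group of order 24 with a normal non-commutative subgroup of order 8 containing one involution, and an
element of order 3 fixing only that involution, has seven classes.
-/

set_option autoImplicit false

namespace Cfsg.Agent.H54.Classes

open Subgroup

theorem card_classes_twentyFour {D : Type*} [Group D] [Finite D] (hD : Nat.card D = 24)
    (Q : Subgroup D) [Q.Normal] (hQ : Nat.card Q = 8) {z : D} (hz : z ∈ Q) (hz2 : z * z = 1) (hz1 : z ≠ 1)
    (huniq : ∀ b ∈ Q, b * b = 1 → b = 1 ∨ b = z) (hne : ∃ a ∈ Q, ∃ b ∈ Q, a * b ≠ b * a)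
    (hsq : ∀ b ∈ Q, b ≠ 1 → b ≠ z → b * b = z)
    {p : D} (hp : orderOf p = 3) (hfix : ∀ b ∈ Q, p * b = b * p → b = 1 ∨ b = z) :
    Nat.card (ConjClasses D) = 7 := by
  classical
  haveI := Fintype.ofFinite D
  have hidx : Q.index = 3 := by
    have := Q.card_mul_index
    rw [hQ, hD] at this
    omega
  haveI : Fact (Nat.Prime 3) := ⟨by norm_num⟩
  have hp3 : p ^ 3 = 1 := hp ▸ pow_orderOf_eq_one p
  have hpQ : p ∉ Q := fun h => by
    have := Subgroup.orderOf_dvd_natCard Q h
    rw [hp, hQ] at this; norm_num at this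
  have hp2Q : p ^ 2 ∉ Q := fun h => hpQ (by
    have h4 : p = (p ^ 2) ^ 2 := by rw [← pow_mul, show 2 * 2 = 3 + 1 from rfl, pow_succ, hp3, one_mul]
    rw [h4]; exact pow_mem h 2)
  set π := QuotientGroup.mk' Q
  have hQq : Nat.card (D ⧸ Q) = 3 := by rw [← Subgroup.index_eq_card]; exact hidx
  haveI : IsCyclic (D ⧸ Q) := isCyclic_of_prime_card hQq
  letI : CommGroup (D ⧸ Q) := IsCyclic.commGroup
  have hπconj : ∀ g x : D, π (g * x * g⁻¹) = π x := fun g x => by
    rw [map_mul, map_mul, map_inv, mul_comm, ← mul_assoc, inv_mul_cancel, one_mul]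
  have hπ1 : ∀ x, π x = 1 ↔ x ∈ Q := fun x => QuotientGroup.eq_one_iff x
  have hpz : p * z = z * p := by
    have h1 : p * z * p⁻¹ ∈ Q := (inferInstance : Q.Normal).conj_mem z hz p
    rcases huniq _ h1 (by
      calc p * z * p⁻¹ * (p * z * p⁻¹) = p * (z * z) * p⁻¹ := by group
        _ = 1 := by rw [hz2]; group) with h | h
    · exact absurd (mul_eq_left.1 (mul_inv_eq_one.1 h)) hz1
    · exact mul_inv_eq_iff_eq_mul.1 h
  obtain ⟨a, haQ, b, hbQ, hab⟩ := hne
  have ha1 : a ≠ 1 := fun e => hab (by rw [e, one_mul, mul_one])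
  have haz : a ≠ z := by
    intro e
    refine hab ?_
    subst e
    have h1 : b * a * b⁻¹ ∈ Q := (inferInstance : Q.Normal).conj_mem a haQ b
    rcases huniq _ h1 (by
      calc b * a * b⁻¹ * (b * a * b⁻¹) = b * (a * a) * b⁻¹ := by group
        _ = 1 := by rw [hz2]; group) with h | h
    · exact absurd (mul_eq_left.1 (mul_inv_eq_one.1 h)) hz1
    · exact (mul_inv_eq_iff_eq_mul.1 h).symm
  let rep : Fin 7 → D := ![1, z, a, p, p ^ 2, p * z, p ^ 2 * z]
  have hπz : π z = 1 := (hπ1 z).2 hz
  have hπa : π a = 1 := (hπ1 a).2 haQ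
  have hπp : π p ≠ 1 := fun e => hpQ ((hπ1 p).1 e)
  have hπp2 : π p ≠ π (p ^ 2) := fun e => hπp (by
    rw [map_pow, pow_two] at e; exact (mul_eq_left.1 e.symm))
  have hπp2' : π (p ^ 2) ≠ 1 := fun e => hp2Q ((hπ1 _).1 e)
  have hp2z : Commute (p ^ 2) z := (show Commute p z from hpz).pow_left 2
  have hpzc : Commute p z := hpz
  have ha2 : a * a = z := hsq a haQ ha1 haz
  have hπpz : π (p * z) = π p := by rw [map_mul, hπz, mul_one]
  have hπp2z : π (p ^ 2 * z) = π (p ^ 2) := by rw [map_mul, hπz, mul_one]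
  have hsq1 : π p ^ 2 ≠ 1 := by rw [← map_pow]; exact hπp2'
  have hsq2 : π p ≠ π p ^ 2 := by rw [← map_pow]; exact hπp2
  let inv : D → (D ⧸ Q) × Bool × Bool × Bool := fun x =>
    (π x, decide (x = 1), decide (x ^ 2 = 1), decide (x ^ 3 = 1))
  have hinv : ∀ g x, inv (g * x * g⁻¹) = inv x := fun g x => by
    simp only [inv, hπconj, conj_pow, mul_inv_eq_one, mul_eq_left]
  have hz3 : z ^ 3 = z := by rw [pow_succ, pow_two, hz2, one_mul]
  have hpz3 : (p * z) ^ 3 = z := by rw [hpzc.mul_pow, hp3, one_mul, hz3]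
  have hp2z3 : (p ^ 2 * z) ^ 3 = z := by
    rw [hp2z.mul_pow, ← pow_mul, show 2 * 3 = 3 * 2 from rfl, pow_mul, hp3, one_pow, one_mul, hz3]
  have hp23 : (p ^ 2) ^ 3 = 1 := by
    rw [← pow_mul, show 2 * 3 = 3 * 2 from rfl, pow_mul, hp3, one_pow]
  have hinj : ∀ i j, IsConj (rep i) (rep j) → i = j := by
    intro i j hij
    obtain ⟨g, hg⟩ := isConj_iff.1 hij
    have he : inv (rep i) = inv (rep j) := by rw [← hg, hinv]
    simp only [inv, Prod.mk.injEq, decide_eq_decide] at he
    obtain ⟨h1, h2, h3, h4⟩ := he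
    fin_cases i <;> fin_cases j <;> first
      | rfl
      | (exfalso; simp [rep, pow_two z, hz2, hz1, ha1, pow_two a, ha2] at h2 h3; done)
      | (exfalso; simp [rep, hπz, hπa, hπp, hπp2, hπp2.symm, hπp2', Ne.symm hπp, Ne.symm hπp2', hπpz, hπp2z, hsq1, hsq2, hsq1.symm, hsq2.symm] at h1; done)
      | (exfalso; simp [rep, hp3, hpz3, hp2z3, hp23, hz1] at h4; done)
  set cl : Fin 7 → Finset D := fun i => Finset.univ.filter fun x => IsConj (rep i) x
  have hdisj : ((Finset.univ : Finset (Fin 7)) : Set (Fin 7)).PairwiseDisjoint cl := by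
    intro i _ j _ hij
    rw [Function.onFun, Finset.disjoint_left]
    intro x hxi hxj
    simp only [cl, Finset.mem_filter, Finset.mem_univ, true_and] at hxi hxj
    exact hij (hinj i j (hxi.trans hxj.symm))
  have hsize : ∀ x : D, ∀ k : ℕ, Nat.card (centralizer ({x} : Set D)) ≤ k →
      24 ≤ (Finset.univ.filter fun y => IsConj x y).card * k := by
    intro x k hk
    have h1 := Finset.card_le_mul_card_image (f := fun g : D => g * x * g⁻¹) (Finset.univ : Finset D)
      (Nat.card (centralizer ({x} : Set D))) fun y hy => by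
        obtain ⟨g, -, rfl⟩ := Finset.mem_image.1 hy
        rw [← Fintype.card_subtype, ← Nat.card_eq_fintype_card]
        refine Nat.card_le_card_of_injective (fun k => (⟨g⁻¹ * k.1, mem_centralizer_singleton_iff.2 ?_⟩ :
          centralizer ({x} : Set D))) fun u v e => Subtype.ext (mul_left_cancel (congrArg Subtype.val e :))
        calc g⁻¹ * k.1 * x = g⁻¹ * (k.1 * x * k.1⁻¹) * k.1 := by group
          _ = x * (g⁻¹ * k.1) := by rw [k.2]; group
    have h2 : (Finset.univ.image fun g : D => g * x * g⁻¹).card ≤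
        (Finset.univ.filter fun y => IsConj x y).card := Finset.card_le_card fun y hy => by
      obtain ⟨g, -, rfl⟩ := Finset.mem_image.1 hy
      simp only [Finset.mem_filter, Finset.mem_univ, true_and]
      exact isConj_iff.2 ⟨g, rfl⟩
    rw [Finset.card_univ, ← Nat.card_eq_fintype_card, hD] at h1
    calc 24 ≤ _ := h1
      _ ≤ k * _ := Nat.mul_le_mul hk h2
      _ = _ := mul_comm _ _
  have hcp : ∀ y : D, (∀ g, g * y = y * g → g * p = p * g) →
      Nat.card (centralizer ({y} : Set D)) ≤ 6 := by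
    intro y hy
    set C := centralizer ({y} : Set D)
    have hK : Nat.card ↥(Q ⊓ C) ≤ 2 := by
      have hsub : ∀ g : ↥(Q ⊓ C), (g : D) ∈ ({1, z} : Finset D) := fun g => by
        obtain ⟨h1, h2⟩ := mem_inf.1 g.2
        simpa using hfix g h1 (hy g (mem_centralizer_singleton_iff.1 h2)).symm
      refine (Nat.card_le_card_of_injective (fun g : ↥(Q ⊓ C) => (⟨(g : D), hsub g⟩ : ({1, z} : Finset D)))
        fun u v e => Subtype.ext (congrArg Subtype.val e :)).trans ?_
      rw [Nat.card_eq_finsetCard]; exact Finset.card_le_two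
    have h1 := (Q.subgroupOf C).card_mul_index
    have h3 : (Q.subgroupOf C).index ≤ 3 := by
      rw [← hidx]
      exact Nat.le_of_dvd (by rw [hidx]; norm_num) (Subgroup.relIndex_dvd_index_of_normal Q C)
    rw [← inf_subgroupOf_right, Nat.card_congr (subgroupOfEquivOfLe inf_le_right).toEquiv] at h1
    rw [inf_subgroupOf_right] at h1
    calc Nat.card C = _ := h1.symm
      _ ≤ 2 * 3 := Nat.mul_le_mul hK h3
      _ = 6 := rfl
  have hca : Nat.card (centralizer ({a} : Set D)) ≤ 4 := by
    set C := centralizer ({a} : Set D)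
    have hdvd : Nat.card C ∣ 24 := hD ▸ Subgroup.card_subgroup_dvd_card C
    by_contra hgt
    rw [not_le] at hgt
    by_cases h3 : 3 ∣ Nat.card C
    · obtain ⟨g, hg⟩ := exists_prime_orderOf_dvd_card' (G := C) 3 h3
      -- every Sylow 3-subgroup is conjugate to `⟨p⟩`
      have hg' : orderOf (g : D) = 3 := by rw [orderOf_coe, hg]
      have hS : ∀ x : D, orderOf x = 3 → ∃ P : Sylow 3 D, (P : Subgroup D) = zpowers x := fun x hx => by
        refine ⟨Sylow.ofCard (zpowers x) ?_, rfl⟩
        rw [Nat.card_zpowers, hx, hD, show 24 = 3 ^ 1 * 8 by norm_num,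
          Nat.factorization_mul (by norm_num) (by norm_num), Nat.factorization_pow]
        simp [(show Nat.Prime 3 by norm_num).factorization, Nat.factorization_eq_zero_of_not_dvd]
      obtain ⟨P, hP⟩ := hS p hp
      obtain ⟨R, hR⟩ := hS _ hg'
      obtain ⟨k, hk⟩ := MulAction.exists_smul_eq D R P
      have hmem : k * g * k⁻¹ ∈ zpowers p := by
        rw [← hP, ← hk, Sylow.coe_subgroup_smul]
        exact smul_mem_pointwise_smul _ (MulAut.conj k) _ (hR ▸ mem_zpowers _)
      obtain ⟨i, hi⟩ := mem_zpowers_iff.1 hmem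
      have hka : k * a * k⁻¹ ∈ Q := (inferInstance : Q.Normal).conj_mem a haQ k
      have hcomm : Commute (p ^ i) (k * a * k⁻¹) := by
        rw [hi]; exact (show Commute (g : D) a from mem_centralizer_singleton_iff.1 g.2).map (MulAut.conj k)
      have hgen : p ∈ zpowers (p ^ i) := by
        have hord : orderOf (p ^ i) = 3 := by
          rw [hi, ← MulAut.conj_apply, MulEquiv.orderOf_eq, hg']
        have := Subgroup.eq_of_le_of_card_ge (zpowers_le.2 (zpow_mem (mem_zpowers p) i) :
          zpowers (p ^ i) ≤ zpowers p) (by rw [Nat.card_zpowers, Nat.card_zpowers, hord, hp])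
        rw [this]; exact mem_zpowers p
      obtain ⟨j, hj⟩ := mem_zpowers_iff.1 hgen
      have hpc : Commute p (k * a * k⁻¹) := hj ▸ hcomm.zpow_left j
      rcases hfix _ hka hpc.eq with e | e
      · exact ha1 (mul_eq_left.1 (mul_inv_eq_one.1 e))
      · refine haz ?_
        have hkz : k⁻¹ * z * k ∈ Q := by simpa using (inferInstance : Q.Normal).conj_mem z hz k⁻¹
        have e2 : a = k⁻¹ * z * k := by rw [← e]; group
        rcases huniq _ hkz (by
          calc k⁻¹ * z * k * (k⁻¹ * z * k) = k⁻¹ * (z * z) * k := by group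
            _ = 1 := by rw [hz2]; group) with e' | e'
        · exact absurd (e2.trans e') ha1
        · exact e2.trans e'
    · have h8 : Nat.card C = 8 := by
        have hmem : Nat.card C ∈ Nat.divisors 24 := Nat.mem_divisors.2 ⟨hdvd, by norm_num⟩
        rw [show Nat.divisors 24 = {1, 2, 3, 4, 6, 8, 12, 24} by decide] at hmem
        simp only [Finset.mem_insert, Finset.mem_singleton] at hmem
        omega
      -- a subgroup of order 8 is the normal Sylow subgroup
      refine hab ?_
      haveI : Fact (Nat.Prime 2) := ⟨Nat.prime_two⟩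
      have hCQ : C ≤ Q := by
        intro g hg
        rw [← hπ1]
        have h1 : orderOf (π g) ∣ 8 := (orderOf_map_dvd π g).trans (h8 ▸ Subgroup.orderOf_dvd_natCard C hg)
        have h2 : orderOf (π g) ∣ 3 := hQq ▸ orderOf_dvd_natCard _
        exact orderOf_eq_one_iff.1 (Nat.eq_one_of_dvd_coprimes (by decide : Nat.Coprime 8 3) h1 h2)
      have hQC := Subgroup.eq_of_le_of_card_ge hCQ (by rw [h8, hQ])
      have hbC : b ∈ C := hQC.symm ▸ hbQ
      exact (mem_centralizer_singleton_iff.1 hbC).symm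
  have huniv : Finset.univ.biUnion cl = Finset.univ := by
    refine Finset.eq_univ_of_card _ (le_antisymm (Finset.card_le_univ _) ?_)
    rw [Finset.card_biUnion hdisj, ← Nat.card_eq_fintype_card, hD]
    have h0 : ∀ i, 1 ≤ (cl i).card := fun i => Finset.card_pos.2
      ⟨rep i, Finset.mem_filter.2 ⟨Finset.mem_univ _, IsConj.refl _⟩⟩
    have hlow : ∀ i, (![1, 1, 6, 4, 4, 4, 4] : Fin 7 → ℕ) i ≤ (cl i).card := by
      have hpp : ∀ g, g * p = p * g → g * p = p * g := fun g h => h
      have e2 := hsize _ 4 hca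
      have e3 := hsize _ 6 (hcp p fun g h => h)
      have e4 := hsize (p ^ 2) 6 (hcp _ fun g h => by
        have h4 : p = (p ^ 2) ^ 2 := by rw [← pow_mul, show 2 * 2 = 3 + 1 from rfl, pow_succ, hp3, one_mul]
        rw [h4]; exact ((show Commute g (p ^ 2) from h).pow_right 2).eq)
      have e5 := hsize (p * z) 6 (hcp _ fun g h => by
        have h4 : p = (p * z) ^ 4 := by
          rw [hpzc.mul_pow, pow_succ p 3, hp3, one_mul, show 4 = 2 * 2 from rfl, pow_mul, pow_two z, hz2,
            one_pow, mul_one]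
        rw [h4]; exact ((show Commute g (p * z) from h).pow_right 4).eq)
      have e6 := hsize (p ^ 2 * z) 6 (hcp _ fun g h => by
        have h4 : p = (p ^ 2 * z) ^ 2 := by
          rw [hp2z.mul_pow, pow_two z, hz2, mul_one, ← pow_mul, show 2 * 2 = 3 + 1 from rfl, pow_succ,
            hp3, one_mul]
        rw [h4]; exact ((show Commute g (p ^ 2 * z) from h).pow_right 2).eq)
      intro i
      fin_cases i
      · exact h0 0
      · exact h0 1
      · exact Nat.le_of_mul_le_mul_right (show 6 * 4 ≤ (cl 2).card * 4 from e2) (by norm_num)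
      · exact Nat.le_of_mul_le_mul_right (show 4 * 6 ≤ (cl 3).card * 6 from e3) (by norm_num)
      · exact Nat.le_of_mul_le_mul_right (show 4 * 6 ≤ (cl 4).card * 6 from e4) (by norm_num)
      · exact Nat.le_of_mul_le_mul_right (show 4 * 6 ≤ (cl 5).card * 6 from e5) (by norm_num)
      · exact Nat.le_of_mul_le_mul_right (show 4 * 6 ≤ (cl 6).card * 6 from e6) (by norm_num)
    exact le_of_eq_of_le (by decide +kernel) (Finset.sum_le_sum fun i _ => hlow i)
  have hbij : Function.Bijective fun i => ConjClasses.mk (rep i) := by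
    refine ⟨fun i j e => hinj i j (ConjClasses.mk_eq_mk_iff_isConj.1 e), fun d => ?_⟩
    obtain ⟨x, rfl⟩ := ConjClasses.exists_rep d
    obtain ⟨i, -, hi⟩ := Finset.mem_biUnion.1 (huniv.ge (Finset.mem_univ x))
    exact ⟨i, ConjClasses.mk_eq_mk_iff_isConj.2 (Finset.mem_filter.1 hi).2⟩
  rw [← Nat.card_eq_of_bijective _ hbij, Nat.card_fin]

end Cfsg.Agent.H54.Classes
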