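import Cfsg.Agent.H54.JFour.Classes.Low
import Cfsg.Agent.H54.JFour.Classes.TwentyFour
import Cfsg.Agent.H69.JFourSylow.Sylow

/-!
The centraliser of a central element of order 11 of a Sylow subgroup has seven classes of elements of order
prime to 11.
-/

set_option autoImplicit false

namespace Cfsg.Agent.H54.Classes

open Subgroup Cfsg.Agent.H43.JFour Cfsg.Agent.H69.JFourSylow

universe u v

variable {G : Type u} [Group G] [Finite G] {A : Type v} [Group A] {M : Subgroup A} {c : Ctx G A}

theorem classes_QP {x : G} (a : At c M x) : Nat.card (ConjClasses ↥(QX c x ⊔ c.P)) = 7 := by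
  classical
  set D := QX c x ⊔ c.P with hD
  set Q := (QX c x).subgroupOf D with hQ
  have hQD : QX c x ≤ D := le_sup_left
  have hPD : c.P ≤ D := le_sup_right
  haveI : Q.Normal := (normal_subgroupOf_iff_le_normalizer hQD).2 (sup_le le_normalizer a.P_norm_Q)
  haveI : Fact (Nat.Prime 3) := ⟨by norm_num⟩
  obtain ⟨⟨p, hpP⟩, hp⟩ := exists_prime_orderOf_dvd_card' (G := c.P) 3 (by rw [a.ok.cardP])
  rw [Subgroup.orderOf_mk] at hp
  have hzp : zpowers p = c.P := Subgroup.eq_of_le_of_card_ge (zpowers_le.2 hpP)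
    (by rw [Nat.card_zpowers, hp, a.ok.cardP])
  obtain ⟨b, hb, d, hd, hbd⟩ := a.exists_noncomm
  refine card_classes_twentyFour a.card_QP Q
    (by rw [Nat.card_congr (subgroupOfEquivOfLe hQD).toEquiv, a.card_Q])
    (z := ⟨c.z, hQD a.z_mem_Q⟩) (mem_subgroupOf.2 a.z_mem_Q) (Subtype.ext a.ok.z_sq)
    (fun e => a.ok.z_ne (congrArg Subtype.val e)) ?_
    ⟨⟨b, hQD hb⟩, mem_subgroupOf.2 hb, ⟨d, hQD hd⟩, mem_subgroupOf.2 hd, fun e => hbd (congrArg Subtype.val e)⟩
    ?_ (p := ⟨p, hPD hpP⟩) (by rw [Subgroup.orderOf_mk, hp]) ?_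
  · intro e he h2
    by_cases h1 : e = 1
    · exact Or.inl h1
    refine Or.inr (Subtype.ext (a.unique_invol (mem_subgroupOf.1 he) ?_))
    haveI : Fact (Nat.Prime 2) := ⟨Nat.prime_two⟩
    exact orderOf_eq_prime (by rw [pow_two]; exact congrArg Subtype.val h2) fun e1 => h1 (Subtype.ext e1)
  · intro e he h1 h2
    exact Subtype.ext (a.sq_eq_z (mem_subgroupOf.1 he) (fun e1 => h1 (Subtype.ext e1))
      fun e1 => h2 (Subtype.ext e1))
  · intro e he hc
    have hcG : Commute p (e : G) := congrArg Subtype.val hc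
    have hEP : (e : G) ∈ zpowers c.z := by
      refine a.ok.fixP _ (mem_inf.1 (mem_subgroupOf.1 he)).1 fun q hq => ?_
      rw [← hzp] at hq
      obtain ⟨i, rfl⟩ := mem_zpowers_iff.1 hq
      exact (hcG.zpow_left i).eq
    obtain ⟨i, hi⟩ := mem_zpowers_iff.1 hEP
    have hz2 : c.z ^ (2 : ℤ) = 1 := by rw [zpow_two]; exact a.ok.z_sq
    obtain ⟨k, rfl | rfl⟩ := Int.even_or_odd' i
    · left; refine Subtype.ext ?_; rw [← hi, zpow_mul, hz2, one_zpow]; rfl
    · right; refine Subtype.ext ?_; rw [← hi, zpow_add, zpow_mul, hz2, one_zpow, one_mul, zpow_one]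

theorem lowCount_eleven {x : G} {U : Sylow 11 G} (h : Eleven c M x U) :
    lowCount (centralizer ({x} : Set G)) 11 = 7 := by
  classical
  set C := centralizer ({x} : Set G) with hC
  set D := QX c x ⊔ c.P with hD
  have hDC : D ≤ C := h.at'.QP_le.trans inf_le_right
  set N' := (U : Subgroup G).subgroupOf C with hN'
  set D' := D.subgroupOf C with hD'
  haveI : N'.Normal := (normal_subgroupOf_iff_le_normalizer h.le_cent).2 h.cent_norm
  have hNc : Nat.card N' = 11 ^ 3 := by
    rw [Nat.card_congr (subgroupOfEquivOfLe h.le_cent).toEquiv, h.card_U]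
  have hDc : Nat.card D' = 24 := by
    rw [Nat.card_congr (subgroupOfEquivOfLe hDC).toEquiv, h.at'.card_QP]
  have hcompl : N'.IsComplement' D' := by
    refine isComplement'_of_card_mul_and_disjoint ?_ ?_
    · rw [hNc, hDc, h.card_cent, mul_comm]
    · rw [disjoint_iff]
      exact disjoint_iff.1 (disjoint_of_coprime_natCard (by rw [hNc, hDc]; decide))
  rw [lowCount_complement (by norm_num) N' D' hNc hcompl ?_,
    Nat.card_congr (α := ConjClasses D') (β := ConjClasses D) ?_, classes_QP h.at']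
  · let e : D' ≃* D := subgroupOfEquivOfLe hDC
    refine Equiv.ofBijective (ConjClasses.map e.toMonoidHom) ⟨fun a b hab => ?_, fun d => ?_⟩
    · obtain ⟨a, rfl⟩ := ConjClasses.exists_rep a
      obtain ⟨b, rfl⟩ := ConjClasses.exists_rep b
      refine ConjClasses.mk_eq_mk_iff_isConj.2 ?_
      simpa using e.symm.toMonoidHom.map_isConj (ConjClasses.mk_eq_mk_iff_isConj.1 hab)
    · obtain ⟨d, rfl⟩ := ConjClasses.exists_rep d
      exact ⟨ConjClasses.mk (e.symm d), by show ConjClasses.mk (e (e.symm d)) = _; rw [e.apply_symm_apply]⟩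
  · intro q hq hd
    rw [hDc] at hd
    have := Nat.le_of_dvd (by norm_num) hd
    by_contra hge
    interval_cases q <;> revert hd hq <;> decide

end Cfsg.Agent.H54.Classes
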