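import Cfsg.Agent.H54.JFour.Classes.ElevenCentral
import Cfsg.Agent.H69.JFourSylow.CentOther
import Cfsg.Agent.S5576

/-!
A group of Janko-four type has nine classes of elements whose order has largest prime divisor 11.
-/

set_option autoImplicit false

namespace Cfsg.Agent.H54.Classes

open Subgroup Cfsg.Agent.H69.JFourSylow

universe u

variable {G : Type u} [Group G] [Finite G]

/-- A group of order 242 has two classes of elements of order prime to 11. -/
theorem lowCount_two_eleven {C : Type*} [Group C] [Finite C] (hC : Nat.card C = 242) :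
    lowCount C 11 = 2 := by
  classical
  haveI : Fact (Nat.Prime 11) := ⟨by norm_num⟩
  obtain ⟨S⟩ : Nonempty (Sylow 11 C) := inferInstance
  have hS : Nat.card (S : Subgroup C) = 11 ^ 2 := by
    rw [S.card_eq_multiplicity, hC, show (242 : ℕ) = 11 ^ 2 * 2 by norm_num,
      Nat.factorization_mul (by norm_num) (by norm_num), Nat.factorization_pow]
    simp [(show Nat.Prime 11 by norm_num).factorization, Nat.factorization_eq_zero_of_not_dvd]
  have hidx : (S : Subgroup C).index = 2 := by
    have h := (S : Subgroup C).card_mul_index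
    rw [hS, hC] at h
    omega
  haveI : (S : Subgroup C).Normal := normal_of_index_eq_two hidx
  obtain ⟨D, hD⟩ := exists_right_complement'_of_coprime
    (show (Nat.card (S : Subgroup C)).Coprime (S : Subgroup C).index by rw [hS, hidx]; norm_num)
  have hDc : Nat.card D = 2 := by
    have h := hD.card_mul
    rw [hS, hC] at h
    omega
  rw [lowCount_complement (n := 2) (by norm_num) (S : Subgroup C) D hS hD fun q hq hd => by
    rw [hDc] at hd; have := Nat.le_of_dvd two_pos hd; omega]
  haveI : IsCyclic D := isCyclic_of_prime_card (p := 2) hDc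
  refine (Nat.card_congr (Equiv.symm (Equiv.ofBijective (ConjClasses.mk (α := D)) ⟨fun a b h => ?_,
    ConjClasses.mk_surjective⟩))).trans hDc
  obtain ⟨g, hg⟩ := isConj_iff.1 (ConjClasses.mk_eq_mk_iff_isConj.1 h)
  letI : CommGroup D := IsCyclic.commGroup
  rw [mul_comm g a, mul_inv_cancel_right] at hg
  exact hg

theorem topCount_eleven [IsSimpleGroup G] (hG : ¬ IsMulCommutative G) (hJ : Cfsg.IsOfJankoFourType G) :
    topCount G 11 = 9 := by
  classical
  haveI : Fact (Nat.Prime 11) := ⟨by norm_num⟩
  obtain ⟨x₀, y₀, hx₀, hy₀, hne₀, hall₀⟩ := S5576.result hG hJ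
  obtain ⟨z, hz⟩ := hJ
  obtain ⟨c, x, U, rfl, s⟩ := exists_setting hG hz (H99.J4U.isoJ4 hG hz)
  obtain ⟨y, hy, hxy⟩ : ∃ y : G, orderOf y = 11 ∧ ¬ IsConj x y := by
    by_cases h : IsConj x x₀
    · exact ⟨y₀, hy₀, fun h' => hne₀ (h.symm.trans h')⟩
    · exact ⟨x₀, hx₀, h⟩
  have hx : orderOf x = 11 := s.x_ord
  have hall : ∀ w : G, orderOf w = 11 → IsConj x w ∨ IsConj y w := by
    intro w hw
    rcases hall₀ x hx with ex | ex <;> rcases hall₀ y hy with ey | ey <;>
      rcases hall₀ w hw with ew | ew
    all_goals first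
      | exact Or.inl (ex.trans ew.symm)
      | exact Or.inr (ey.trans ew.symm)
      | exact absurd (ex.trans ey.symm) hxy
  have hexp : ∀ a : G, ¬ 11 ^ 2 ∣ orderOf a := by
    intro a h
    set b := a ^ (orderOf a / 11 ^ 2)
    have hb : orderOf b = 11 ^ 2 := orderOf_pow_orderOf_div (orderOf_pos a).ne' h
    obtain ⟨V, hV⟩ := (IsPGroup.of_card (G := zpowers b) (n := 2)
      (by rw [Nat.card_zpowers, hb])).exists_le_sylow
    obtain ⟨m, hm⟩ := MulAction.exists_smul_eq G V U
    have hbU : m * b * m⁻¹ ∈ (U : Subgroup G) := by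
      rw [← hm, Sylow.coe_subgroup_smul]
      exact Subgroup.smul_mem_pointwise_smul _ (MulAut.conj m) _ (hV (mem_zpowers b))
    have h11 := s.exponent _ hbU
    rw [conj_pow, conj_eq_one_iff] at h11
    have h' := orderOf_dvd_iff_pow_eq_one.2 h11
    rw [hb] at h'
    norm_num at h'
  rw [topCount_eq (by norm_num) (fun a _ => hexp a) (fun b : Bool => bif b then x else y)
    (fun b => by cases b <;> assumption)
    (fun a b h => by
      cases a <;> cases b
      · rfl
      · exact absurd (show IsConj x y from h.symm) hxy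
      · exact absurd (show IsConj x y from h) hxy
      · rfl)
    (fun w hw => (hall w hw).elim (fun h => ⟨true, h⟩) fun h => ⟨false, h⟩)]
  rw [Fintype.sum_bool]
  simp only [cond_true, cond_false]
  rw [lowCount_eleven s, lowCount_two_eleven (s.card_cent_other hG hz hy hxy)]

end Cfsg.Agent.H54.Classes
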