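import Cfsg.Agent.H54.JFour.Classes.Prime
import Cfsg.Agent.H54.JFour.SevenFinal

/-!
The classes of elements with largest prime divisor `7`, `5` and the large primes in a group of Janko-four type.
-/

set_option autoImplicit false

namespace Cfsg.Agent.H54.Classes

open Subgroup

/-- Representatives of the seven classes of permutations of five points. -/
def permRep : Fin 7 → Equiv.Perm (Fin 5) :=
  ![1, Equiv.swap 0 1, Equiv.swap 0 1 * Equiv.swap 2 3, Equiv.swap 0 1 * Equiv.swap 1 2,
    Equiv.swap 0 1 * Equiv.swap 1 2 * Equiv.swap 3 4, Equiv.swap 0 1 * Equiv.swap 1 2 * Equiv.swap 2 3,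
    Equiv.swap 0 1 * Equiv.swap 1 2 * Equiv.swap 2 3 * Equiv.swap 3 4]

theorem card_classes_perm_five : Nat.card (ConjClasses (Equiv.Perm (Fin 5))) = 7 := by
  have hcov : ∀ σ : Equiv.Perm (Fin 5), ∃ i : Fin 7, (permRep i).cycleType = σ.cycleType := by
    decide +kernel
  have hinj : ∀ i j : Fin 7, (permRep i).cycleType = (permRep j).cycleType → i = j := by decide +kernel
  rw [← Nat.card_eq_of_bijective (fun i => ConjClasses.mk (permRep i)) ⟨fun i j h => hinj i j
    (Equiv.Perm.isConj_iff_cycleType_eq.1 (ConjClasses.mk_eq_mk_iff_isConj.1 h)), fun c => ?_⟩,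
    Nat.card_fin]
  obtain ⟨σ, rfl⟩ := ConjClasses.exists_rep c
  obtain ⟨i, hi⟩ := hcov σ
  exact ⟨i, ConjClasses.mk_eq_mk_iff_isConj.2 (Equiv.Perm.isConj_iff_cycleType_eq.2 hi)⟩

universe u

variable {G : Type u} [Group G] [Finite G] [IsSimpleGroup G]

theorem topCount_seven (hG : ¬ IsMulCommutative G) {z : G} (hJ : Cfsg.IsOfJankoFourTypeAt z)
    (S : Subgroup G) (hS : Nat.card S = 7) (hSz : S ≤ centralizer ({z} : Set G)) :
    topCount G 7 = 14 := by
  haveI : Fact (Nat.Prime 7) := ⟨by norm_num⟩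
  obtain ⟨h49, ⟨I, hI, ⟨e⟩⟩, hN, -⟩ := H54.JFour.seven_final hG hJ S hS hSz
  have h := topCount_prime (G := G) (p := 7) (by simpa using h49) S hS hN
  rw [lowCount_internal (by norm_num) hI hS, lowCount_congr e, lowCount_eq_card ?_,
    card_classes_perm_five] at h
  · omega
  · intro q hq hd
    rw [Nat.card_perm, Nat.card_fin] at hd
    exact Nat.lt_succ_of_le (le_trans ((hq.dvd_factorial).1 hd) (by norm_num))

/-- The classes of largest prime `5` reduce to those of the complement. -/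
theorem topCount_five (hG : ¬ IsMulCommutative G) {z : G} (hJ : Cfsg.IsOfJankoFourTypeAt z)
    (h69 : ∀ t : G, orderOf t = 2 → ¬ IsConj z t →
      ∃ V K : Subgroup G, V ≤ centralizer ({t} : Set G) ∧ K ≤ centralizer ({t} : Set G) ∧
        centralizer ({t} : Set G) ≤ normalizer (V : Set G) ∧ IsElementaryAbelian 2 V ∧
        Nat.card V = 2 ^ 11 ∧ K ⊓ V = ⊥ ∧ K ⊔ V = centralizer ({t} : Set G) ∧
        Nonempty (K ≃* MulAut ↥Spor.M22))
    (Q : Subgroup G) (hQ : Nat.card Q = 5) (hQz : Q ≤ centralizer ({z} : Set G)) :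
    ∃ (J : Subgroup G) (E : Subgroup J) (_ : E.Normal), IsElementaryAbelian 2 E ∧ Nat.card E = 8 ∧
      Nonempty (J ⧸ E ≃* Matrix.SpecialLinearGroup (Fin 3) (ZMod 2)) ∧
      (∀ K : Subgroup J, ¬ E.IsComplement' K) ∧ Nat.card J = 1344 ∧ topCount G 5 = lowCount J 5 := by
  haveI : Fact (Nat.Prime 5) := ⟨by norm_num⟩
  obtain ⟨h25, ⟨J, hJd, E, hEn, hE, hE8, hq, hns⟩, -, hN⟩ := H54.JFour.five_final hG hJ h69 Q hQ hQz
  obtain ⟨e⟩ := hq
  have hJc : Nat.card J = 1344 := by
    rw [E.card_eq_card_quotient_mul_card_subgroup, Nat.card_congr e.toEquiv, hE8]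
    rw [show Nat.card (Matrix.SpecialLinearGroup (Fin 3) (ZMod 2)) = 168 by
      rw [Nat.card_eq_fintype_card]; decide +kernel]
  have hC : Nat.card (centralizer (Q : Set G)) = 5 * 1344 := by
    obtain ⟨f⟩ := exists_equiv_prod hJd
    rw [← Nat.card_congr f.toEquiv, Nat.card_prod, hQ, hJc]
  have h := topCount_prime (G := G) (p := 5) (by simpa using h25) Q hQ (m := 4) (by rw [hN, hC]; norm_num)
  rw [lowCount_internal (by norm_num) hJd hQ] at h
  exact ⟨J, E, hEn, hE, hE8, ⟨e⟩, hns, hJc, by omega⟩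

omit [IsSimpleGroup G] in
/-- The large primes. -/
theorem topCount_large
    (h23 : ∀ U : Sylow 23 G, centralizer ((U : Subgroup G) : Set G) = (U : Subgroup G) ∧
      Nat.card (normalizer ((U : Subgroup G) : Set G)) = 23 * 22)
    (h29 : ∀ U : Sylow 29 G, centralizer ((U : Subgroup G) : Set G) = (U : Subgroup G) ∧
      Nat.card (normalizer ((U : Subgroup G) : Set G)) = 29 * 28)
    (h31 : ∀ U : Sylow 31 G, centralizer ((U : Subgroup G) : Set G) = (U : Subgroup G) ∧
      Nat.card (normalizer ((U : Subgroup G) : Set G)) = 31 * 10)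
    (h37 : ∀ U : Sylow 37 G, centralizer ((U : Subgroup G) : Set G) = (U : Subgroup G) ∧
      Nat.card (normalizer ((U : Subgroup G) : Set G)) = 37 * 12)
    (h43 : ∀ U : Sylow 43 G, centralizer ((U : Subgroup G) : Set G) = (U : Subgroup G) ∧
      Nat.card (normalizer ((U : Subgroup G) : Set G)) = 43 * 14)
    (hd : 23 * 29 * 31 * 37 * 43 ∣ Nat.card G) :
    topCount G 23 = 1 ∧ topCount G 29 = 1 ∧ topCount G 31 = 3 ∧ topCount G 37 = 3 ∧
      topCount G 43 = 3 := by
  have key : ∀ (p m : ℕ), p.Prime → (p ∣ 23 * 29 * 31 * 37 * 43) → ¬ p ∣ m →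
      (∀ U : Sylow p G, centralizer ((U : Subgroup G) : Set G) = (U : Subgroup G) ∧
        Nat.card (normalizer ((U : Subgroup G) : Set G)) = p * m) → topCount G p * m = p - 1 := by
    intro p m hp hpd hpm hU
    haveI := Fact.mk hp
    exact topCount_self (default : Sylow p G) (hU _).1 (hU _).2 hpm (hpd.trans hd)
  have a := key 23 22 (by norm_num) (by norm_num) (by norm_num) h23
  have b := key 29 28 (by norm_num) (by norm_num) (by norm_num) h29
  have c := key 31 10 (by norm_num) (by norm_num) (by norm_num) h31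
  have d := key 37 12 (by norm_num) (by norm_num) (by norm_num) h37
  have e := key 43 14 (by norm_num) (by norm_num) (by norm_num) h43
  omega

end Cfsg.Agent.H54.Classes
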