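import Cfsg.Agent.H54.JFour.Classes.EightCount
import Cfsg.Agent.H54.JFour.Classes.Parts

/-!
The nine classes of elements with largest prime divisor 5 in a group of Janko-four type.
-/

set_option autoImplicit false

namespace Cfsg.Agent.H54.Classes

open Subgroup Cfsg.Agent.H43.JFour

universe u v

variable {G : Type u} [Group G] [Finite G] {A : Type v} [Group A] {M : Subgroup A} {c : Ctx G A}
  {Q : Subgroup G}

/-- An involution of the extraspecial group centralising `Q` outside the group of order eight. -/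
theorem exists_inner (hl : H54.JFour.Loc c M Q) :
    ∃ x ∈ c.E ⊓ centralizer (Q : Set G), x ∉ H54.JFour.eight c Q ∧ x * x = 1 ∧ ¬ IsConj c.z x := by
  obtain ⟨f, hf, hfA⟩ : ∃ f ∈ c.E ⊓ centralizer (Q : Set G), f ∉ H54.JFour.eight c Q := by
    by_contra hall
    push Not at hall
    have := Nat.le_of_dvd Nat.card_pos
      (card_dvd_of_le (hall : c.E ⊓ centralizer (Q : Set G) ≤ H54.JFour.eight c Q))
    rw [hl.card_F, hl.card_eight] at this
    omega
  obtain ⟨x, hxF, hxA, hxx⟩ :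
      ∃ x ∈ c.E ⊓ centralizer (Q : Set G), x ∉ H54.JFour.eight c Q ∧ x * x = 1 := by
    rcases hl.ok.sq_mem hf.1 with h | h
    · exact ⟨f, hf, hfA, h⟩
    obtain ⟨l, hlA, hfl⟩ : ∃ l ∈ H54.JFour.eight c Q, f * l ≠ l * f := by
      by_contra hall
      push Not at hall
      obtain ⟨a, ha, r, hr, e⟩ := hl.cent_eight hf.2 hall
      have hrE : r ∈ c.E := by
        rw [show r = a⁻¹ * f by rw [e]; group]
        exact mul_mem (inv_mem (hl.eight_le_E ha)) hf.1
      have h1 := Subgroup.orderOf_dvd_natCard c.E hrE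
      have h2 := Subgroup.orderOf_dvd_natCard Q hr
      rw [hl.ok.cardE] at h1
      rw [hl.card] at h2
      rw [orderOf_eq_one_iff.1 (Nat.eq_one_of_dvd_coprimes (by decide : Nat.Coprime 5 (2 ^ 13)) h2 h1),
        mul_one] at e
      exact hfA (e ▸ ha)
    refine ⟨f * l, mul_mem hf ⟨hl.eight_le_E hlA, hl.eight_le_cent hlA⟩,
      fun h' => hfA (by have := mul_mem h' (inv_mem hlA); rwa [mul_inv_cancel_right] at this), ?_⟩
    calc f * l * (f * l) = f * l * (c.z * (l * f)) := by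
          rw [(hl.ok.swap hf.1 (hl.eight_le_E hlA)).resolve_left hfl]
      _ = f * (l * c.z) * l * f := by group
      _ = f * c.z * (l * l) * f := by rw [← hl.ok.z_comm (hl.eight_le_E hlA)]; group
      _ = c.z * (f * f) := by
        rw [← pow_two l, hl.eight_elem.2 l hlA, mul_one, ← hl.ok.z_comm hf.1, mul_assoc]
      _ = 1 := by rw [h, hl.ok.z_sq]
  refine ⟨x, hxF, hxA, hxx, fun h => hxA ?_⟩
  by_cases hxz : x = c.z
  · exact hl.mem_eight.2 (Or.inr (Or.inl hxz))
  · exact hl.six_mem_eight ⟨⟨hxF.1, hxz, h⟩, hxF.2⟩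

/-- The centraliser of `Q` has nine classes of elements with prime divisors below five. -/
theorem lowCount_cent (hl : H54.JFour.Loc c M Q) (ht : H54.JFour.TData c)
    (hd : ∃ J : Subgroup G, Cfsg.IsInternalDirectProduct Q J (centralizer (Q : Set G)) ∧ Nat.card J = 1344) :
    lowCount (centralizer (Q : Set G)) 5 = 9 := by
  classical
  obtain ⟨J, hJd, hJc⟩ := hd
  rw [lowCount_internal (by norm_num) hJd hl.card]
  obtain ⟨hQC, hJC, hcomm, hinf, hsup⟩ := id hJd
  -- two-elements of the centraliser lie in `J`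
  have htwo : ∀ g ∈ centralizer (Q : Set G), (∃ k, g ^ 2 ^ k = 1) → g ∈ J := by
    rintro g hg ⟨k, hk⟩
    obtain ⟨a, ha, b, hb, rfl⟩ : ∃ a ∈ Q, ∃ b ∈ J, g = a * b := by
      obtain ⟨e⟩ := exists_equiv_prod hJd
      have hle : Q ≤ normalizer (J : Set G) := fun a ha => mem_normalizer_iff.2 fun b =>
        ⟨fun hb => by rwa [hcomm a ha b hb, mul_inv_cancel_right], fun hb => by
          have h1 : a * (a * b * a⁻¹) = a * b * a⁻¹ * a := hcomm a ha _ hb
          have h2 : a * b * a⁻¹ = b := by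
            calc a * b * a⁻¹ = a⁻¹ * (a * (a * b * a⁻¹)) := by group
              _ = b := by rw [h1]; group
          rwa [h2] at hb⟩
      have hg' : g ∈ ((Q ⊔ J : Subgroup G) : Set G) := by rw [hsup]; exact hg
      rw [coe_mul_of_left_le_normalizer_right Q J hle] at hg'
      obtain ⟨a, ha, b, hb, hab⟩ := Set.mem_mul.1 hg'
      exact ⟨a, ha, b, hb, hab.symm⟩
    rw [(show Commute a b from hcomm a ha b hb).mul_pow] at hk
    have h1 : a ^ 2 ^ k ∈ Q ⊓ J :=
      mem_inf.2 ⟨pow_mem ha _, by rw [eq_inv_of_mul_eq_one_left hk]; exact J.inv_mem (pow_mem hb _)⟩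
    rw [hinf, mem_bot] at h1
    have ha1 : a = 1 := orderOf_eq_one_iff.1 (Nat.eq_one_of_dvd_coprimes
      ((Nat.Coprime.pow_right k (by decide : Nat.Coprime 5 2)))
      (hl.card ▸ Subgroup.orderOf_dvd_natCard Q ha) (orderOf_dvd_of_pow_eq_one h1))
    rw [ha1, one_mul]
    exact hb
  have hsqz : ∀ a ∈ c.E, a ^ 2 ^ 2 = 1 := fun a ha => by
    show a ^ 4 = 1
    rw [show 4 = 2 * 2 from rfl, pow_mul, pow_two a]
    rcases hl.ok.sq_mem ha with h | h <;> rw [h, pow_two]
    · exact one_mul 1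
    · exact hl.ok.z_sq
  have hFJ : c.E ⊓ centralizer (Q : Set G) ≤ J := fun a ha => htwo a ha.2 ⟨2, hsqz a ha.1⟩
  have hEF : H54.JFour.eight c Q ≤ c.E ⊓ centralizer (Q : Set G) :=
    le_inf hl.eight_le_E hl.eight_le_cent
  obtain ⟨x, hxF, hxA, hxx, hxc⟩ := exists_inner hl
  have hzE : c.z ∈ H54.JFour.eight c Q := hl.mem_eight.2 (Or.inr (Or.inl rfl))
  have hfive := hl.five ht
  have hn : ∀ g ∈ centralizer (Q : Set G), ∀ a ∈ H54.JFour.eight c Q,
      g * a * g⁻¹ ∈ H54.JFour.eight c Q := fun g hg a ha => by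
    have h1 := hfive.conj_mem (g := ⟨g, hg⟩) (by rw [hfive.normal]; trivial)
      (mem_subgroupOf.2 ha : (⟨a, hl.eight_le_cent ha⟩ : centralizer (Q : Set G)) ∈ _)
    exact mem_subgroupOf.1 h1
  have hdata : EightData J ((H54.JFour.eight c Q).subgroupOf J)
      ((c.E ⊓ centralizer (Q : Set G)).subgroupOf J) ⟨c.z, hFJ (hEF hzE)⟩ ⟨x, hFJ hxF⟩ := by
    refine
      { sq := fun a ha => Subtype.ext (by
          show (a : G) * a = 1
          rw [← pow_two]; exact hl.eight_elem.2 _ (mem_subgroupOf.1 ha))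
        cardE := by
          rw [Nat.card_congr (subgroupOfEquivOfLe (hEF.trans hFJ)).toEquiv, hl.card_eight]
        cardJ := hJc
        self := fun g hg => ?_
        z_mem := mem_subgroupOf.2 hzE
        z_ne := fun e1 => hl.ok.z_ne (congrArg Subtype.val e1)
        le := fun a ha => mem_subgroupOf.2 (hEF (mem_subgroupOf.1 ha))
        cardF := by rw [Nat.card_congr (subgroupOfEquivOfLe hFJ).toEquiv, hl.card_F]
        comm := fun a ha b hb => ?_
        u_mem := mem_subgroupOf.2 hxF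
        u_not := fun h => hxA (mem_subgroupOf.1 h)
        u_sq := Subtype.ext hxx
        small := ?_ }
    · have hgC : (g : G) ∈ centralizer (Q : Set G) := hJd.2.1 g.2
      obtain ⟨a, ha, r, hr, e1⟩ := hl.cent_eight hgC fun a ha =>
        congrArg Subtype.val (hg ⟨a, hFJ (hEF ha)⟩ (mem_subgroupOf.2 ha))
      have hrJ : r ∈ Q ⊓ J := ⟨hr, by
        rw [show r = a⁻¹ * g by rw [e1]; group]
        exact J.mul_mem (J.inv_mem (hFJ (hEF ha))) g.2⟩
      rw [hJd.2.2.2.1, mem_bot] at hrJ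
      rw [mem_subgroupOf, e1, hrJ, mul_one]
      exact ha
    · rcases hl.ok.swap (mem_inf.1 (mem_subgroupOf.1 ha)).1 (mem_inf.1 (mem_subgroupOf.1 hb)).1
        with e1 | e1
      · refine Or.inl (Subtype.ext ?_)
        show (a : G) * b * (a : G)⁻¹ * (b : G)⁻¹ = 1
        rw [e1]; group
      · refine Or.inr (Subtype.ext ?_)
        show (a : G) * b * (a : G)⁻¹ * (b : G)⁻¹ = c.z
        rw [e1]; group
    · have hx1 : orderOf x = 2 := by
        haveI : Fact (Nat.Prime 2) := ⟨Nat.prime_two⟩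
        exact orderOf_eq_prime (by rw [pow_two]; exact hxx) fun e1 => hxA (e1 ▸ one_mem _)
      have hb := hl.other_bound ht hxF.2 hx1 hxc (hn x hxF.2)
      set CJ := centralizer ({(⟨x, hFJ hxF⟩ : J)} : Set J)
      have hmem : ∀ p : Q × CJ, (p.1 : G) * ((p.2 : J) : G) ∈
          centralizer ({x} : Set G) ⊓ centralizer (Q : Set G) := by
        rintro ⟨a, b⟩
        refine ⟨mem_centralizer_singleton_iff.2 ?_, mul_mem (hQC a.2) (hJd.2.1 (b : J).2)⟩
        have hb' : ((b : J) : G) * x = x * (b : J) :=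
          congrArg Subtype.val (mem_centralizer_singleton_iff.1 b.2)
        rw [mul_assoc, hb', ← mul_assoc, ← mul_assoc, mem_centralizer_iff.1 hxF.2 a a.2]
      have h1 := Nat.card_le_card_of_injective (fun p => (⟨_, hmem p⟩ :
          ↥(centralizer ({x} : Set G) ⊓ centralizer (Q : Set G)))) fun p r e1 => by
        have h4 : (p.1 : G) * (p.2 : J) = (r.1 : G) * (r.2 : J) := congrArg Subtype.val e1
        have h5 : (r.1 : G)⁻¹ * p.1 = ((r.2 : J) : G) * ((p.2 : J) : G)⁻¹ := by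
          calc (r.1 : G)⁻¹ * p.1 = (r.1 : G)⁻¹ * ((p.1 : G) * (p.2 : J)) * ((p.2 : J) : G)⁻¹ := by group
            _ = _ := by rw [h4]; group
        have h6 : (r.1 : G)⁻¹ * p.1 ∈ Q ⊓ J :=
          mem_inf.2 ⟨Q.mul_mem (Q.inv_mem r.1.2) p.1.2, h5 ▸ J.mul_mem (r.2 : J).2 (J.inv_mem (p.2 : J).2)⟩
        rw [hinf, mem_bot, inv_mul_eq_one] at h6
        rw [h6] at h4
        exact Prod.ext (Subtype.ext h6.symm) (Subtype.ext (Subtype.ext (mul_left_cancel h4)))
      rw [Nat.card_prod, hl.card] at h1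
      omega
  haveI : ((H54.JFour.eight c Q).subgroupOf J).Normal := ⟨fun a ha g => by
    rw [mem_subgroupOf] at ha ⊢
    exact hn g (hJd.2.1 g.2) _ ha⟩
  exact (hdata.card_classes inferInstance).2

/-- Nine classes have largest prime divisor five. -/
theorem topCount_five_eq [IsSimpleGroup G] (hG : ¬ IsMulCommutative G) {z : G}
    (hJ : Cfsg.IsOfJankoFourTypeAt z)
    (h69 : ∀ t : G, orderOf t = 2 → ¬ IsConj z t →
      ∃ V K : Subgroup G, V ≤ centralizer ({t} : Set G) ∧ K ≤ centralizer ({t} : Set G) ∧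
        centralizer ({t} : Set G) ≤ normalizer (V : Set G) ∧ IsElementaryAbelian 2 V ∧
        Nat.card V = 2 ^ 11 ∧ K ⊓ V = ⊥ ∧ K ⊔ V = centralizer ({t} : Set G) ∧
        Nonempty (K ≃* MulAut ↥Spor.M22))
    (Q : Subgroup G) (hQ : Nat.card Q = 5) (hQz : Q ≤ centralizer ({z} : Set G)) :
    topCount G 5 = 9 := by
  haveI : Fact (Nat.Prime 5) := ⟨by norm_num⟩
  obtain ⟨h25, ⟨J, hJd, E, hEn, -, hE8, ⟨e⟩, -⟩, -, hN⟩ := H54.JFour.five_final hG hJ h69 Q hQ hQz
  have hJc : Nat.card J = 1344 := by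
    rw [E.card_eq_card_quotient_mul_card_subgroup, Nat.card_congr e.toEquiv, hE8,
      show Nat.card (Matrix.SpecialLinearGroup (Fin 3) (ZMod 2)) = 168 by
        rw [Nat.card_eq_fintype_card]; decide +kernel]
  have hC : Nat.card (centralizer (Q : Set G)) = 5 * 1344 := by
    obtain ⟨f⟩ := exists_equiv_prod hJd
    rw [← Nat.card_congr f.toEquiv, Nat.card_prod, hQ, hJc]
  obtain ⟨c, rfl, hb⟩ := H54.JFour.exists_base hG hJ Q hQ
  obtain ⟨h, -, hl⟩ := hb.exists_loc hQz
  have hlow := lowCount_cent hl ((H54.JFour.tdata_of_shape h69).conj h) ⟨J, hJd, hJc⟩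
  have htop := topCount_prime (G := G) (p := 5) (by simpa using h25) Q hQ (m := 4)
    (by rw [hN, hC]; norm_num)
  rw [hlow] at htop
  omega

end Cfsg.Agent.H54.Classes
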