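import Cfsg.Agent.H54.JFour.Classes.Count
import Cfsg.Agent.Hall.SchurZassenhaus

/-!
Classes of `p'`-elements in a group with a normal `p`-subgroup and a complement of order prime to `p`.
-/

set_option autoImplicit false

namespace Cfsg.Agent.H54.Classes

open Subgroup
open scoped Pointwise

theorem lowCount_complement {C : Type*} [Group C] [Finite C] {p n : ℕ} (hp : p.Prime)
    (N D : Subgroup C) [N.Normal] (hN : Nat.card N = p ^ n) (hND : N.IsComplement' D)
    (hD : ∀ q : ℕ, q.Prime → q ∣ Nat.card D → q < p) :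
    lowCount C p = Nat.card (ConjClasses D) := by
  classical
  haveI := Fact.mk hp
  have hsolv : Group.IsSolvable N := by
    haveI : Group.IsNilpotent N := (IsPGroup.of_card hN).isNilpotent
    infer_instance
  have hinj : ∀ a b : D, IsConj (a : C) b → IsConj a b := by
    intro a b hab
    obtain ⟨g, hg⟩ := isConj_iff.1 hab
    obtain ⟨⟨m, d⟩, hmd⟩ := hND.2 g
    have hmd' : (m : C) * d = g := hmd
    refine isConj_iff.2 ⟨d, ?_⟩
    set a' : D := d * a * d⁻¹
    have h1 : (m : C) * (a' : C) * (m : C)⁻¹ = b := by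
      rw [← hg, ← hmd']; show (m : C) * ((d : C) * a * (d : C)⁻¹) * (m : C)⁻¹ = _; group
    have h2 : (m : C) * ((a' : C) * (m : C)⁻¹ * (a' : C)⁻¹) ∈ N :=
      N.mul_mem m.2 ((inferInstance : N.Normal).conj_mem _ (N.inv_mem m.2) _)
    have h3 : ((m : C) * ((a' : C) * (m : C)⁻¹ * (a' : C)⁻¹)) = (b : C) * (a' : C)⁻¹ := by
      rw [← h1]; group
    rw [h3] at h2
    have h4 : (b : C) * (a' : C)⁻¹ ∈ N ⊓ D := mem_inf.2 ⟨h2, D.mul_mem b.2 (D.inv_mem a'.2)⟩
    rw [hND.disjoint.eq_bot, mem_bot, mul_inv_eq_one] at h4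
    exact Subtype.ext h4.symm
  have hcover : ∀ g : C, IsLow p g → ∃ d : D, IsConj g d := by
    intro g hg
    set H := zpowers g
    set K := (N ⊔ H) ⊓ D
    have hcop : (Nat.card N).Coprime (Nat.card H) := by
      rw [hN, Nat.card_zpowers]
      exact Nat.Coprime.pow_left n ((Nat.Prime.coprime_iff_not_dvd hp).2 fun h => lt_irrefl _ (hg p hp h))
    have hsup : N ⊔ H = N ⊔ K := by
      refine le_antisymm (sup_le le_sup_left fun x hx => ?_) (sup_le le_sup_left inf_le_left)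
      obtain ⟨⟨m, d⟩, hmd⟩ := hND.2 x
      have hmd' : (m : C) * d = x := hmd
      have hd : (d : C) ∈ K := mem_inf.2 ⟨by
        rw [show (d : C) = (m : C)⁻¹ * x by rw [← hmd']; group]
        exact mul_mem (mem_sup_left (N.inv_mem m.2)) (mem_sup_right hx), d.2⟩
      rw [← hmd']
      exact mul_mem (mem_sup_left m.2) (mem_sup_right hd)
    have hcard : Nat.card K = Nat.card H := by
      have hKdisj : N ⊓ K = ⊥ := le_bot_iff.1 ((inf_le_inf_left N inf_le_right).trans hND.disjoint.eq_bot.le)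
      have hHdisj : N ⊓ H = ⊥ := Hall.inf_bot_of_coprime hcop
      have e1 := Subgroup.card_mul_index (N.subgroupOf (N ⊔ H))
      have e2 : ∀ L : Subgroup C, N ⊓ L = ⊥ → Nat.card ↥(N ⊔ L) = Nat.card N * Nat.card L := by
        intro L hL
        rw [← Nat.card_prod]
        refine (Nat.card_eq_of_bijective (fun x : N × L =>
          (⟨(x.1 : C) * x.2, mul_mem (mem_sup_left x.1.2) (mem_sup_right x.2.2)⟩ : ↥(N ⊔ L)))
          ⟨fun x y e => ?_, fun x => ?_⟩).symm
        · have e' : (x.1 : C) * x.2 = y.1 * y.2 := congrArg Subtype.val e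
          have h5 : (y.1 : C)⁻¹ * x.1 = (y.2 : C) * (x.2 : C)⁻¹ := by
            calc (y.1 : C)⁻¹ * x.1 = (y.1 : C)⁻¹ * ((x.1 : C) * x.2) * (x.2 : C)⁻¹ := by group
              _ = _ := by rw [e']; group
          have h6 : (y.1 : C)⁻¹ * x.1 ∈ N ⊓ L := mem_inf.2 ⟨N.mul_mem (N.inv_mem y.1.2) x.1.2,
            h5 ▸ L.mul_mem y.2.2 (L.inv_mem x.2.2)⟩
          rw [hL, mem_bot, inv_mul_eq_one] at h6
          rw [h6] at e'
          exact Prod.ext (Subtype.ext h6.symm) (Subtype.ext (mul_left_cancel e'))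
        · have hx : (x : C) ∈ ((N ⊔ L : Subgroup C) : Set C) := x.2
          rw [normal_mul] at hx
          obtain ⟨a, ha, b, hb, hab⟩ := Set.mem_mul.1 hx
          exact ⟨(⟨a, ha⟩, ⟨b, hb⟩), Subtype.ext hab⟩
      have e3 := e2 H hHdisj
      rw [hsup, e2 K hKdisj] at e3
      exact Nat.eq_of_mul_eq_mul_left Nat.card_pos e3
    obtain ⟨a, ha, hconj⟩ := Hall.conj_complement_internal
      (show H ≤ normalizer (N : Set C) by rw [normalizer_eq_top]; exact le_top) hsup hcard hcop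
      (Or.inl hsolv)
    have hgK : MulAut.conj a g ∈ K := by
      rw [← hconj]; exact smul_mem_pointwise_smul _ _ _ (mem_zpowers g)
    exact ⟨⟨a * g * a⁻¹, hgK.2⟩, isConj_iff.2 ⟨a, rfl⟩⟩
  have hlowD : ∀ d : D, IsLow p (d : C) := fun d q hq hd => hD q hq (by
    rw [orderOf_coe] at hd
    exact hd.trans (orderOf_dvd_natCard d))
  unfold lowCount
  refine (Nat.card_eq_of_bijective (fun c : ConjClasses D => (⟨ConjClasses.map D.subtype c, by
    obtain ⟨d, rfl⟩ := ConjClasses.exists_rep c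
    exact ⟨(d : C), rfl, hlowD d⟩⟩ : {c : ConjClasses C // ∃ x, ConjClasses.mk x = c ∧ IsLow p x}))
    ⟨fun a b => ?_, fun c => ?_⟩).symm
  · intro e
    obtain ⟨a, rfl⟩ := ConjClasses.exists_rep a
    obtain ⟨b, rfl⟩ := ConjClasses.exists_rep b
    exact ConjClasses.mk_eq_mk_iff_isConj.2 (hinj a b (ConjClasses.mk_eq_mk_iff_isConj.1
      (congrArg Subtype.val e)))
  · obtain ⟨c, x, rfl, hx⟩ := c
    obtain ⟨d, hd⟩ := hcover x hx
    exact ⟨ConjClasses.mk d, Subtype.ext (ConjClasses.mk_eq_mk_iff_isConj.2 hd.symm)⟩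

end Cfsg.Agent.H54.Classes
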