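import Cfsg.Agent.H54.JFour.Classes.Count
import Cfsg.Prelude.Def_TwoFusion

/-!
Classes of elements with largest prime divisor `p` when `p ^ 2` does not divide the group order.
-/

set_option autoImplicit false

namespace Cfsg.Agent.H54.Classes

open Subgroup

variable {G : Type*} [Group G]

theorem centralizer_conj_equiv (g y : G) :
    Nonempty (centralizer ({y} : Set G) ≃* centralizer ({g * y * g⁻¹} : Set G)) := by
  have h : (centralizer ({y} : Set G)).map (MulAut.conj g : G ≃* G).toMonoidHom =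
      centralizer ({g * y * g⁻¹} : Set G) := by
    ext x
    rw [Subgroup.mem_map_equiv, mem_centralizer_singleton_iff, mem_centralizer_singleton_iff,
      MulAut.conj_symm_apply]
    constructor
    · intro e
      calc x * (g * y * g⁻¹) = g * (g⁻¹ * x * g * y) * g⁻¹ := by group
        _ = g * y * g⁻¹ * x := by rw [e]; group
    · intro e
      calc g⁻¹ * x * g * y = g⁻¹ * (x * (g * y * g⁻¹)) * g := by group
        _ = y * (g⁻¹ * x * g) := by rw [e]; group
  exact ⟨((centralizer ({y} : Set G)).equivMapOfInjective _ (MulAut.conj g).injective).trans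
    (MulEquiv.subgroupCongr h)⟩

theorem cent_zpowers_singleton (y : G) :
    centralizer (zpowers y : Set G) = centralizer ({y} : Set G) := by
  rw [zpowers_eq_closure, centralizer_closure]

/-- The two factors of an internal direct product. -/
theorem exists_equiv_prod {S I C : Subgroup G} (h : Cfsg.IsInternalDirectProduct S I C) :
    Nonempty (S × I ≃* C) := by
  obtain ⟨hS, hI, hc, hinf, hsup⟩ := h
  have hcomm : ∀ (a : S) (b : I), Commute (inclusion hS a) (inclusion hI b) := fun a b =>
    Subtype.ext (hc a a.2 b b.2)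
  refine ⟨MulEquiv.ofBijective (MonoidHom.noncommCoprod _ _ hcomm) ⟨?_, ?_⟩⟩
  · rw [injective_iff_map_eq_one]
    rintro ⟨a, b⟩ e
    have e' : (a : G) * b = 1 := congrArg Subtype.val e
    have hb' : (a : G)⁻¹ = b := inv_eq_of_mul_eq_one_right e'
    have hb : (b : G) ∈ S ⊓ I := mem_inf.2 ⟨hb' ▸ S.inv_mem a.2, b.2⟩
    rw [hinf, mem_bot] at hb
    rw [hb, mul_one] at e'
    exact Prod.ext (Subtype.ext e') (Subtype.ext hb)
  · intro x
    have hx : (x : G) ∈ S ⊔ I := hsup.symm ▸ x.2
    have hle : S ≤ normalizer (I : Set G) := fun a ha => mem_normalizer_iff.2 fun b =>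
      ⟨fun hb => by rwa [hc a ha b hb, mul_inv_cancel_right], fun hb => by
        have h1 : a * (a * b * a⁻¹) = a * b * a⁻¹ * a := hc a ha _ hb
        have h2 : a * b * a⁻¹ = b := by
          calc a * b * a⁻¹ = a⁻¹ * (a * (a * b * a⁻¹)) := by group
            _ = b := by rw [h1]; group
        rwa [h2] at hb⟩
    have hx' : (x : G) ∈ ((S ⊔ I : Subgroup G) : Set G) := hx
    rw [coe_mul_of_left_le_normalizer_right S I hle] at hx'
    obtain ⟨a, ha, b, hb, hab⟩ := Set.mem_mul.1 hx'
    exact ⟨(⟨a, ha⟩, ⟨b, hb⟩), Subtype.ext hab⟩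

theorem lowCount_internal [Finite G] {p : ℕ} (hp : p.Prime) {S I C : Subgroup G}
    (h : Cfsg.IsInternalDirectProduct S I C) (hS : Nat.card S = p) :
    lowCount C p = lowCount I p := by
  haveI := Fact.mk hp
  haveI : IsCyclic S := isCyclic_of_prime_card hS
  letI : CommGroup S := IsCyclic.commGroup
  obtain ⟨e⟩ := exists_equiv_prod h
  rw [← lowCount_congr e]
  exact lowCount_prod hp hS

theorem lowCount_prime {p : ℕ} (hp : p.Prime) {C : Type*} [Group C] (hC : Nat.card C = p) :
    lowCount C p = 1 := by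
  haveI := Fact.mk hp
  haveI : Finite C := Nat.finite_of_card_ne_zero (hC ▸ hp.ne_zero)
  unfold lowCount
  rw [Nat.card_eq_one_iff_unique]
  have hone : ∀ x : C, IsLow p x → x = 1 := fun x hx => by
    by_contra h1
    exact lt_irrefl _ (hx p hp ((orderOf_eq_prime (hC ▸ pow_card_eq_one') h1).symm ▸ dvd_rfl))
  refine ⟨⟨fun ⟨a, x, ha, hx⟩ ⟨b, y, hb, hy⟩ => Subtype.ext ?_⟩, ⟨⟨ConjClasses.mk 1, 1, rfl, ?_⟩⟩⟩
  · show a = b
    rw [← ha, ← hb, hone x hx, hone y hy]
  · intro q hq hd
    rw [orderOf_one] at hd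
    exact absurd (Nat.eq_one_of_dvd_one hd) hq.ne_one

/-- The number of classes of elements of order `p`. -/
theorem card_order_classes [Finite G] {p : ℕ} [Fact p.Prime] (Q : Subgroup G) (hQ : Nat.card Q = p)
    (hconj : ∀ Q' : Subgroup G, Nat.card Q' = p → ∃ g : G, Q.map (MulAut.conj g).toMonoidHom = Q')
    {m : ℕ} (hm : Nat.card (normalizer (Q : Set G)) = m * Nat.card (centralizer (Q : Set G))) :
    Nat.card {c : ConjClasses G // ∃ x, ConjClasses.mk x = c ∧ orderOf x = p} * m = p - 1 := by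
  classical
  set ι := {c : ConjClasses G // ∃ x, ConjClasses.mk x = c ∧ orderOf x = p}
  set U := {a : G // a ∈ Q ∧ a ≠ 1}
  have hgen : ∀ a ∈ Q, a ≠ 1 → orderOf a = p ∧ zpowers a = Q := by
    intro a ha h1
    have ho : orderOf a = p := by
      rcases (Nat.dvd_prime (Fact.out : p.Prime)).1 (hQ ▸ Subgroup.orderOf_dvd_natCard Q ha) with h | h
      · exact absurd (orderOf_eq_one_iff.1 h) h1
      · exact h
    exact ⟨ho, Subgroup.eq_of_le_of_card_ge (zpowers_le.2 ha) (by rw [Nat.card_zpowers, ho, hQ])⟩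
  set f : U → ι := fun a => ⟨ConjClasses.mk a.1, a.1, rfl, (hgen a.1 a.2.1 a.2.2).1⟩
  have hU : Nat.card U = p - 1 := by
    show Nat.card ↥{a : G | a ∈ Q ∧ a ≠ 1} = p - 1
    rw [Nat.card_coe_set_eq, show {a : G | a ∈ Q ∧ a ≠ 1} = (Q : Set G) \ {1} from rfl,
      Set.ncard_sdiff_singleton_of_mem (one_mem Q), ← Nat.card_coe_set_eq, SetLike.coe_sort_coe, hQ]
  have hNC : centralizer (Q : Set G) ≤ normalizer (Q : Set G) := centralizer_le_normalizer _
  have hfib : ∀ c : ι, Nat.card {a : U // f a = c} = m := by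
    rintro ⟨c, x, rfl, hx⟩
    obtain ⟨g, hg⟩ := hconj (zpowers x) (by rw [Nat.card_zpowers, hx])
    obtain ⟨a, haQ, hax⟩ : x ∈ Q.map (MulAut.conj g).toMonoidHom := hg ▸ mem_zpowers x
    have ha1 : a ≠ 1 := fun e => (Fact.out : p.Prime).ne_one (by
      rw [← hx, ← hax, e, map_one, orderOf_one])
    obtain ⟨-, hza⟩ := hgen a haQ ha1
    have hxa : IsConj a x := isConj_iff.2 ⟨g, hax⟩
    set N := normalizer (Q : Set G)
    have hmem : ∀ n : N, (n : G) * a * (n : G)⁻¹ ∈ Q := fun n => (mem_normalizer_iff.1 n.2 a).1 haQ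
    let F : N → {b : U // f b = (⟨ConjClasses.mk x, x, rfl, hx⟩ : ι)} := fun n =>
      ⟨⟨(n : G) * a * (n : G)⁻¹, hmem n, fun e => ha1 (by simpa [mul_inv_eq_one] using e)⟩,
        Subtype.ext (ConjClasses.mk_eq_mk_iff_isConj.2
          ((isConj_iff.2 ⟨(n : G), rfl⟩ : IsConj a _).symm.trans hxa))⟩
    have hCa : centralizer (Q : Set G) = centralizer ({a} : Set G) := by
      rw [← hza, cent_zpowers_singleton]
    have hFeq : ∀ n k : N, F n = F k ↔ n⁻¹ * k ∈ (centralizer (Q : Set G)).subgroupOf N := by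
      intro n k
      rw [mem_subgroupOf, hCa, mem_centralizer_singleton_iff, Subgroup.coe_mul, InvMemClass.coe_inv]
      constructor
      · intro e
        have e' : (n : G) * a * (n : G)⁻¹ = k * a * (k : G)⁻¹ :=
          congrArg (fun b => ((b.1 : U) : G)) e
        calc (n : G)⁻¹ * k * a = (n : G)⁻¹ * ((k : G) * a * (k : G)⁻¹) * k := by group
          _ = _ := by rw [← e']; group
      · intro e
        refine Subtype.ext (Subtype.ext ?_)
        show (n : G) * a * (n : G)⁻¹ = k * a * (k : G)⁻¹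
        calc (n : G) * a * (n : G)⁻¹ = n * (a * ((n : G)⁻¹ * k)) * (k : G)⁻¹ := by group
          _ = _ := by rw [← e]; group
    have hsurj : Function.Surjective F := by
      rintro ⟨⟨b, hbQ, hb1⟩, hb⟩
      obtain ⟨k, hk⟩ := isConj_iff.1 (hxa.trans (ConjClasses.mk_eq_mk_iff_isConj.1 (congrArg Subtype.val hb)).symm)
      have hkN : k ∈ N := by
        have hle : Q.map (MulAut.conj k).toMonoidHom = Q := by
          conv_lhs => rw [← hza]
          rw [MonoidHom.map_zpowers]
          show zpowers (k * a * k⁻¹) = Q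
          rw [hk]
          exact (hgen b hbQ hb1).2
        refine mem_normalizer_iff.2 fun z => ⟨fun hz => hle ▸ mem_map_of_mem _ hz, fun hz => ?_⟩
        rw [← hle] at hz
        obtain ⟨w, hw, e⟩ := hz
        rwa [← (MulAut.conj k).injective (e : MulAut.conj k w = MulAut.conj k z)]
      exact ⟨⟨k, hkN⟩, Subtype.ext (Subtype.ext hk)⟩
    let Fq : N ⧸ (centralizer (Q : Set G)).subgroupOf N → _ :=
      Quotient.lift F fun n k h => (hFeq n k).2 (QuotientGroup.leftRel_apply.1 h)
    have hbij : Function.Bijective Fq := by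
      refine ⟨fun n k => ?_, fun b => ?_⟩
      · induction n using QuotientGroup.induction_on with
        | H n => induction k using QuotientGroup.induction_on with
          | H k => exact fun h => QuotientGroup.eq.2 ((hFeq n k).1 h)
      · obtain ⟨n, hn⟩ := hsurj b
        exact ⟨QuotientGroup.mk n, hn⟩
    rw [← Nat.card_eq_of_bijective Fq hbij]
    have h := ((centralizer (Q : Set G)).subgroupOf N).card_eq_card_quotient_mul_card_subgroup
    rw [Nat.card_congr (subgroupOfEquivOfLe hNC).toEquiv, hm] at h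
    exact (Nat.eq_of_mul_eq_mul_right Nat.card_pos h).symm
  have hsum := Nat.card_congr (Equiv.sigmaFiberEquiv f)
  haveI : Fintype ι := Fintype.ofFinite _
  rw [Nat.card_sigma, hU, Finset.sum_congr rfl fun c _ => hfib c, Finset.sum_const, Finset.card_univ,
    smul_eq_mul, ← Nat.card_eq_fintype_card] at hsum
  exact hsum

/-- Classes with largest prime `p` from the local data at a subgroup of order `p`. -/
theorem topCount_prime [Finite G] {p : ℕ} [Fact p.Prime] (h2 : ¬ p ^ 2 ∣ Nat.card G) (Q : Subgroup G)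
    (hQ : Nat.card Q = p) {m : ℕ}
    (hm : Nat.card (normalizer (Q : Set G)) = m * Nat.card (centralizer (Q : Set G))) :
    topCount G p * m = (p - 1) * lowCount (centralizer (Q : Set G)) p := by
  classical
  have hp : p.Prime := Fact.out
  have hsyl : ∀ R : Subgroup G, Nat.card R = p → ∃ P : Sylow p G, (P : Subgroup G) = R := by
    intro R hR
    obtain ⟨P, hP⟩ := (IsPGroup.of_card (n := 1) (by rw [hR, pow_one]) : IsPGroup p R).exists_le_sylow
    obtain ⟨n, hn⟩ := IsPGroup.iff_card.1 P.2
    have hn1 : n ≤ 1 := by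
      by_contra h
      exact h2 ((pow_dvd_pow p (by omega : 2 ≤ n)).trans (hn ▸ Subgroup.card_subgroup_dvd_card _))
    exact ⟨P, (Subgroup.eq_of_le_of_card_ge hP (by
      rw [hn, hR]
      calc p ^ n ≤ p ^ 1 := Nat.pow_le_pow_right hp.pos hn1
        _ = p := pow_one p)).symm⟩
  have hconj : ∀ Q' : Subgroup G, Nat.card Q' = p → ∃ g : G, Q.map (MulAut.conj g).toMonoidHom = Q' := by
    intro Q' hQ'
    obtain ⟨P, rfl⟩ := hsyl Q hQ
    obtain ⟨P', rfl⟩ := hsyl Q' hQ'
    obtain ⟨g, hg⟩ := MulAction.exists_smul_eq G P P'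
    refine ⟨g, ?_⟩
    rw [← hg, Sylow.coe_subgroup_smul]
    rfl
  haveI : Fintype {c : ConjClasses G // ∃ x, ConjClasses.mk x = c ∧ orderOf x = p} := Fintype.ofFinite _
  have hy : ∀ c : {c : ConjClasses G // ∃ x, ConjClasses.mk x = c ∧ orderOf x = p},
      orderOf c.2.choose = p := fun c => c.2.choose_spec.2
  have hmk : ∀ c : {c : ConjClasses G // ∃ x, ConjClasses.mk x = c ∧ orderOf x = p},
      ConjClasses.mk c.2.choose = c.1 := fun c => c.2.choose_spec.1
  rw [topCount_eq hp (fun x _ h => h2 (h.trans (orderOf_dvd_natCard x)))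
    (fun c : {c : ConjClasses G // ∃ x, ConjClasses.mk x = c ∧ orderOf x = p} => c.2.choose) hy
    (fun c d e => Subtype.ext (by rw [← hmk c, ← hmk d]; exact ConjClasses.mk_eq_mk_iff_isConj.2 e))
    (fun w hw => ⟨⟨ConjClasses.mk w, w, rfl, hw⟩, ConjClasses.mk_eq_mk_iff_isConj.1 (hmk _)⟩)]
  have hlow : ∀ c : {c : ConjClasses G // ∃ x, ConjClasses.mk x = c ∧ orderOf x = p},
      lowCount (centralizer ({c.2.choose} : Set G)) p = lowCount (centralizer (Q : Set G)) p := by
    intro c
    obtain ⟨g, hg⟩ := hconj (zpowers c.2.choose) (by rw [Nat.card_zpowers, hy c])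
    have h : (centralizer (Q : Set G)).map (MulAut.conj g : G ≃* G).toMonoidHom =
        centralizer ({c.2.choose} : Set G) := by
      rw [← cent_zpowers_singleton c.2.choose, ← hg]
      ext x
      rw [Subgroup.mem_map_equiv, mem_centralizer_iff, mem_centralizer_iff, MulAut.conj_symm_apply]
      constructor
      · rintro e _ ⟨a, ha, rfl⟩
        show g * a * g⁻¹ * x = x * (g * a * g⁻¹)
        calc g * a * g⁻¹ * x = g * (a * (g⁻¹ * x * g)) * g⁻¹ := by group
          _ = _ := by rw [e a ha]; group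
      · intro e a ha
        have e' : g * a * g⁻¹ * x = x * (g * a * g⁻¹) := e _ ⟨a, ha, rfl⟩
        calc a * (g⁻¹ * x * g) = g⁻¹ * (g * a * g⁻¹ * x) * g := by group
          _ = _ := by rw [e']; group
    exact (lowCount_congr (((centralizer (Q : Set G)).equivMapOfInjective _
      (MulAut.conj g).injective).trans (MulEquiv.subgroupCongr h))).symm
  rw [Finset.sum_congr rfl fun c _ => hlow c, Finset.sum_const, Finset.card_univ, smul_eq_mul,
    ← Nat.card_eq_fintype_card, mul_right_comm, card_order_classes Q hQ hconj hm]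

/-- The self-centralising case. -/
theorem topCount_self [Finite G] {p : ℕ} [Fact p.Prime] {m : ℕ} (U : Sylow p G)
    (hC : centralizer ((U : Subgroup G) : Set G) = (U : Subgroup G))
    (hN : Nat.card (normalizer ((U : Subgroup G) : Set G)) = p * m) (hmp : ¬ p ∣ m)
    (hd : p ∣ Nat.card G) : topCount G p * m = p - 1 := by
  have hp : p.Prime := Fact.out
  obtain ⟨n, hn⟩ := IsPGroup.iff_card.1 U.2
  have hpow : p ^ n ∣ p * m := hn ▸ hN ▸ Subgroup.card_dvd_of_le le_normalizer
  have hn1 : n = 1 := by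
    have h1 : 1 ≤ n := by
      by_contra h
      have h1 : p ^ 1 ∣ Nat.card (U : Subgroup G) := U.pow_dvd_card_of_pow_dvd_card (by rwa [pow_one])
      rw [hn, Nat.pow_dvd_pow_iff_le_right hp.one_lt] at h1
      omega
    by_contra h
    refine hmp ?_
    have h2 : p * p ∣ p * m := by
      rw [← pow_two]; exact (pow_dvd_pow p (by omega : 2 ≤ n)).trans hpow
    exact Nat.dvd_of_mul_dvd_mul_left hp.pos h2
  subst hn1
  rw [pow_one] at hn
  have h2 : ¬ p ^ 2 ∣ Nat.card G := fun h => by
    have h1 := U.pow_dvd_card_of_pow_dvd_card h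
    rw [hn] at h1
    have := Nat.le_of_dvd hp.pos h1
    have h3 := Nat.pow_lt_pow_right hp.one_lt (by norm_num : 1 < 2)
    rw [pow_one] at h3
    omega
  have hCc : Nat.card (centralizer ((U : Subgroup G) : Set G)) = p := by rw [hC, hn]
  rw [topCount_prime h2 (U : Subgroup G) hn (m := m) (by rw [hN, hCc, mul_comm]),
    lowCount_prime hp hCc, mul_one]

end Cfsg.Agent.H54.Classes
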