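import Cfsg.Agent.H54.JFour.Elem

/-!
Coordinates on a normal elementary abelian subgroup of order 8 adapted to an involution outside it, and the
resulting matrix representation.
-/

set_option autoImplicit false

namespace Cfsg.Agent.H54.Classes

open Subgroup Matrix

abbrev Vec := Fin 3 → ZMod 2
abbrev Mat := Matrix (Fin 3) (Fin 3) (ZMod 2)

variable {J : Type*} [Group J]

/-- A coordinate system on a normal subgroup. -/
structure Coord (E : Subgroup J) where
  ι : Vec → J
  mem : ∀ v, ι v ∈ E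
  add : ∀ v w, ι (v + w) = ι v * ι w
  inj : Function.Injective ι
  surj : ∀ a ∈ E, ∃ v, ι v = a
  π : J →* Mat
  conj : ∀ g v, g * ι v * g⁻¹ = ι (π g *ᵥ v)

theorem toMat_mulVec {A : Type*} [Group A] (e : Additive A ≃+ Vec) (f : MulAut A) (v : Vec) :
    H54.JFour.toMat e f *ᵥ v = e (Additive.ofMul (f (e.symm v).toMul)) := by
  show LinearMap.toMatrix' ((H54.JFour.addMap e f).toZModLinearMap 2) *ᵥ v = _
  rw [LinearMap.toMatrix'_mulVec]
  rfl

/-- Coordinates adapted to an involution moving exactly one line. -/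
theorem exists_coord (E : Subgroup J) [E.Normal] (hsq : ∀ a ∈ E, a * a = 1) (hcard : Nat.card E = 8)
    {z u : J} (hz : z ∈ E) (hz1 : z ≠ 1) (hzu : z * u = u * z)
    (hmove : ∀ a ∈ E, u * a * u⁻¹ = a ∨ u * a * u⁻¹ = a * z)
    (hne : ∃ a ∈ E, u * a * u⁻¹ ≠ a) :
    ∃ c : Coord E, c.ι ![1, 0, 0] = z ∧ c.π u = !![1, 0, 1; 0, 1, 0; 0, 0, 1] := by
  classical
  have hinv : ∀ a ∈ E, a⁻¹ = a := fun a ha => inv_eq_of_mul_eq_one_right (hsq a ha)
  have hcomm : ∀ a ∈ E, ∀ b ∈ E, a * b = b * a := fun a ha b hb => by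
    calc a * b = (a * b)⁻¹ := (hinv _ (mul_mem ha hb)).symm
      _ = b * a := by rw [_root_.mul_inv_rev, hinv a ha, hinv b hb]
  haveI : Finite E := Nat.finite_of_card_ne_zero (by rw [hcard]; norm_num)
  letI : CommGroup E := { (inferInstance : Group E) with
    mul_comm := fun a b => Subtype.ext (hcomm a a.2 b b.2) }
  obtain ⟨e, he, hue⟩ := hne
  have hue' : u * e * u⁻¹ = e * z := (hmove e he).resolve_left hue
  obtain ⟨h, hh, hh1, hhz, hfix⟩ : ∃ h ∈ E, h ≠ 1 ∧ h ≠ z ∧ u * h * u⁻¹ = h := by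
    by_contra hall
    push Not at hall
    have : ∀ a : E, (a : J) ∈ ({1, z, e, e * z} : Finset J) := by
      intro a
      simp only [Finset.mem_insert, Finset.mem_singleton]
      by_contra hn
      push Not at hn
      obtain ⟨n1, n2, n3, n4⟩ := hn
      have h1 := (hmove a a.2).resolve_left (hall a a.2 n1 n2)
      have h2 : u * ((a : J) * e) * u⁻¹ = a * e := by
        calc u * ((a : J) * e) * u⁻¹ = (u * a * u⁻¹) * (u * e * u⁻¹) := by group
          _ = a * (z * e) * z := by rw [h1, hue']; group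
          _ = a * e * (z * z) := by rw [hcomm z hz e he]; group
          _ = a * e := by rw [hsq z hz, mul_one]
      refine hall _ (mul_mem a.2 he) ?_ ?_ h2
      · exact fun e1 => n3 (by rw [eq_inv_of_mul_eq_one_left e1, hinv e he])
      · intro e1
        apply n4
        calc (a : J) = a * (e * e) := by rw [hsq e he, mul_one]
          _ = z * e := by rw [← mul_assoc, e1]
          _ = e * z := hcomm z hz e he
    have h8 := Nat.card_le_card_of_injective (fun a : E => (⟨(a : J), this a⟩ : ({1, z, e, e * z} : Finset J)))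
      fun a b hab => Subtype.ext (congrArg Subtype.val hab :)
    rw [hcard, Nat.card_eq_finsetCard] at h8
    exact absurd (h8.trans Finset.card_le_four) (by norm_num)
  set zE : Additive E := Additive.ofMul ⟨z, hz⟩
  set hE : Additive E := Additive.ofMul ⟨h, hh⟩
  set eE : Additive E := Additive.ofMul ⟨e, he⟩
  have h2E : ∀ a : Additive E, a + a = 0 := fun a => Subtype.ext (hsq _ a.toMul.2)
  letI : Module (ZMod 2) (Additive E) :=
    AddCommGroup.zmodModule (n := 2) fun a => by rw [two_nsmul]; exact h2E a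
  let L : Vec →ₗ[ZMod 2] Additive E := Fintype.linearCombination (ZMod 2) ![zE, hE, eE]
  have hL : ∀ v : Vec, L v = v 0 • zE + v 1 • hE + v 2 • eE := fun v => by
    simp [L, Fintype.linearCombination_apply, Fin.sum_univ_three]
  have hcases : ∀ x : ZMod 2, x = 0 ∨ x = 1 := by decide
  have hker : ∀ v, L v = 0 → v = 0 := by
    intro v hv
    rw [hL] at hv
    have hue1 : u * (z * e) * u⁻¹ ≠ z * e := fun E1 => by
      refine hue ?_
      have : u * z * u⁻¹ = z := by rw [← hzu, mul_inv_cancel_right]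
      calc u * e * u⁻¹ = (u * z * u⁻¹)⁻¹ * (u * (z * e) * u⁻¹) := by group
        _ = e := by rw [this, E1]; group
    have hne_z : z ≠ 1 := hz1
    have he1 : e ≠ 1 := fun e1 => hue (by rw [e1]; group)
    have hez : e ≠ z := fun e1 => hue (by rw [e1, ← hzu, mul_inv_cancel_right])
    have hzh : z * h ≠ 1 := fun e1 => hhz (by rw [← hinv z hz, inv_eq_of_mul_eq_one_right e1])
    have hze : z * e ≠ 1 := fun e1 => hez (by rw [← hinv z hz, inv_eq_of_mul_eq_one_right e1])
    have hhe : h * e ≠ 1 := fun e1 => hue (by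
      rw [← (inv_eq_of_mul_eq_one_right e1 : h⁻¹ = e), hinv h hh]; exact hfix)
    have hzhe : z * h * e ≠ 1 := fun e1 => by
      refine hue ?_
      rw [← (inv_eq_of_mul_eq_one_right e1 : (z * h)⁻¹ = e), hinv _ (mul_mem hz hh)]
      calc u * (z * h) * u⁻¹ = (u * z) * u⁻¹ * (u * h * u⁻¹) := by group
        _ = z * h := by rw [← hzu, hfix, mul_inv_cancel_right]
    have hv' : ((v 0 • zE + v 1 • hE + v 2 • eE).toMul : J) = 1 := by rw [hv]; rfl
    funext i
    rcases hcases (v 0) with a | a <;> rcases hcases (v 1) with b | b <;> rcases hcases (v 2) with d | d <;>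
      simp only [a, b, d, zero_smul, one_smul, add_zero, zero_add, toMul_add, Subgroup.coe_mul, zE, hE, eE,
        toMul_ofMul] at hv'
    · fin_cases i <;> simp [a, b, d]
    · exact absurd hv' he1
    · exact absurd hv' hh1
    · exact absurd hv' hhe
    · exact absurd hv' hne_z
    · exact absurd hv' hze
    · exact absurd hv' hzh
    · exact absurd hv' hzhe
  have hinjL : Function.Injective L := fun a b hab => sub_eq_zero.1 (hker _ (by rw [map_sub, hab, sub_self]))
  haveI : Finite (Additive E) := ‹Finite E›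
  have hbij : Function.Bijective L.toAddMonoidHom := by
    haveI := Fintype.ofFinite (Additive E)
    refine (Fintype.bijective_iff_injective_and_card _).2 ⟨hinjL, ?_⟩
    rw [← Nat.card_eq_fintype_card, ← Nat.card_eq_fintype_card,
      show Nat.card (Additive E) = 8 from hcard]
    simp
  let Φ : Vec ≃+ Additive E := AddEquiv.ofBijective L.toAddMonoidHom hbij
  let π : J →* Mat := (H54.JFour.toMat Φ.symm).comp (MulAut.conjNormal (H := E))
  have hconj : ∀ g v, g * ((Φ v).toMul : J) * g⁻¹ = ((Φ (π g *ᵥ v)).toMul : J) := by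
    intro g v
    show _ = ((Φ ((H54.JFour.toMat Φ.symm (MulAut.conjNormal g)) *ᵥ v)).toMul : J)
    rw [toMat_mulVec, AddEquiv.apply_symm_apply, toMul_ofMul, MulAut.conjNormal_apply,
      AddEquiv.symm_symm]
  refine ⟨⟨fun v => ((Φ v).toMul : J), fun v => (Φ v).toMul.2, fun v w => by
      rw [map_add, toMul_add, Subgroup.coe_mul],
    fun v w hvw => Φ.injective (Additive.toMul.injective (Subtype.ext hvw)),
    fun a ha => ⟨Φ.symm (Additive.ofMul ⟨a, ha⟩), by rw [Φ.apply_symm_apply]; rfl⟩, π, hconj⟩, ?_, ?_⟩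
  · show ((L ![1, 0, 0]).toMul : J) = z
    rw [hL]; simp [zE]
  · have hinjι : ∀ a b : Vec, ((Φ a).toMul : J) = (Φ b).toMul → a = b := fun a b hab =>
      Φ.injective (Additive.toMul.injective (Subtype.ext hab))
    have hz' : ((Φ ![1, 0, 0]).toMul : J) = z := by show ((L _).toMul : J) = z; rw [hL]; simp [zE]
    have hh' : ((Φ ![0, 1, 0]).toMul : J) = h := by show ((L _).toMul : J) = h; rw [hL]; simp [hE]
    have he' : ((Φ ![0, 0, 1]).toMul : J) = e := by show ((L _).toMul : J) = e; rw [hL]; simp [eE]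
    have hez' : ((Φ ![1, 0, 1]).toMul : J) = e * z := by
      rw [hcomm e he z hz]; show ((L _).toMul : J) = z * e; rw [hL]; simp [zE, eE]
    have c0 : π u *ᵥ ![1, 0, 0] = ![1, 0, 0] := hinjι _ _ (by
      rw [← hconj, hz', ← hzu, mul_inv_cancel_right])
    have c1 : π u *ᵥ ![0, 1, 0] = ![0, 1, 0] := hinjι _ _ (by rw [← hconj, hh', hfix])
    have c2 : π u *ᵥ ![0, 0, 1] = ![1, 0, 1] := hinjι _ _ (by rw [← hconj, he', hue', hez'])
    have key : ∀ M : Mat, M *ᵥ ![1, 0, 0] = ![1, 0, 0] → M *ᵥ ![0, 1, 0] = ![0, 1, 0] →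
        M *ᵥ ![0, 0, 1] = ![1, 0, 1] → M = !![1, 0, 1; 0, 1, 0; 0, 0, 1] := by decide +kernel
    exact key _ c0 c1 c2

end Cfsg.Agent.H54.Classes
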