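import Cfsg.Agent.H54.JFour.Classes.Eight

/-!
Finite facts on the matrices of degree three over two elements used in counting classes.
-/

set_option autoImplicit false

namespace Cfsg.Agent.H54.Classes

open Matrix


/-- Transvections with centre the first basis vector. -/
def IsPz (M : Mat) : Prop := ∀ v : Vec, M *ᵥ v = v ∨ M *ᵥ v = v + ![1, 0, 0]

instance : DecidablePred IsPz := fun M =>
  inferInstanceAs (Decidable (∀ v : Vec, M *ᵥ v = v ∨ M *ᵥ v = v + ![1, 0, 0]))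

/-- The matrices commuting with `matU`. -/
def centU : Finset Mat := Finset.univ.filter fun M => M.det ≠ 0 ∧ M * matU = matU * M

theorem mem_centU {M : Mat} : M ∈ centU ↔ M.det ≠ 0 ∧ M * matU = matU * M := by simp [centU]

theorem card_centU : centU.card = 8 := by decide +kernel

theorem centU_fix : ∀ M ∈ centU, M *ᵥ ![1, 0, 0] = ![1, 0, 0] := by decide +kernel

theorem centU_out : ∀ M ∈ centU, ¬ IsPz M → (M *ᵥ ![0, 0, 1]) 1 = 1 := by decide +kernel

theorem centU_two : ∀ M ∈ centU, ∀ N ∈ centU, ∀ M' ∈ centU, N * M = 1 → ¬ IsPz M → ¬ IsPz M' →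
    IsPz (N * M') := by decide +kernel

theorem card_pz : ((Finset.univ : Finset Mat).filter IsPz).card ≤ 8 ∧
    ((Finset.univ : Finset Mat).filter fun M => M.det ≠ 0 ∧ IsPz M).card = 4 := by decide +kernel

theorem centV_pow : ∀ M : Mat, M.det ≠ 0 → M * matV = matV * M →
    M = 1 ∨ M = matV ∨ M = matV ^ 2 ∨ M = matV ^ 3 := by decide +kernel

theorem notImV : ∀ w : Vec, ∀ k : Fin 4,
    matV ^ (k : ℕ) *ᵥ (matV ^ 3 *ᵥ w + w) ≠ ![0, 0, 1] := by decide +kernel

theorem matS_real : ∀ M : Mat, M.det ≠ 0 → M * matS ≠ matS ^ 6 * M := by decide +kernel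

theorem card_centU' : Fintype.card {M : Mat // M.det ≠ 0 ∧ M * matU = matU * M} *
    Fintype.card {x : Vec // matU *ᵥ x = x} = 32 := by decide +kernel

theorem card_centT : Fintype.card {M : Mat // M.det ≠ 0 ∧ M * matT = matT * M} *
    Fintype.card {x : Vec // matT *ᵥ x = x} = 6 := by decide +kernel

theorem card_centV : Fintype.card {M : Mat // M.det ≠ 0 ∧ M * matV = matV * M} *
    Fintype.card {x : Vec // matV *ᵥ x = x} = 8 := by decide +kernel

theorem card_centS : Fintype.card {M : Mat // M.det ≠ 0 ∧ M * matS = matS * M} *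
    Fintype.card {x : Vec // matS *ᵥ x = x} = 7 := by decide +kernel

theorem card_centS' : Fintype.card {M : Mat // M.det ≠ 0 ∧ M * matS ^ 6 = matS ^ 6 * M} *
    Fintype.card {x : Vec // matS ^ 6 *ᵥ x = x} = 7 := by decide +kernel

theorem pow_ne_U : matU ≠ 1 ∧ matU ^ 2 = 1 := by decide +kernel

theorem pow_ne_T : matT ≠ 1 ∧ matT ^ 2 ≠ 1 ∧ matT ^ 3 = 1 := by decide +kernel

theorem pow_ne_V : matV ≠ 1 ∧ matV ^ 2 ≠ 1 ∧ matV ^ 3 ≠ 1 ∧ matV ^ 4 = 1 := by decide +kernel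

theorem pow_ne_S : matS ≠ 1 ∧ matS ^ 2 ≠ 1 ∧ matS ^ 3 ≠ 1 ∧ matS ^ 4 ≠ 1 := by decide +kernel

theorem pow_ne_S6 : matS ^ 6 ≠ 1 ∧ (matS ^ 6) ^ 2 ≠ 1 ∧ (matS ^ 6) ^ 3 ≠ 1 ∧ (matS ^ 6) ^ 4 ≠ 1 := by
  decide +kernel

end Cfsg.Agent.H54.Classes
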