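import Cfsg.Agent.H54.JFour.Classes.Count

/-!
Classes of 2-elements in a central extension of a group with five classes of 2-elements by a group of order six.
-/

set_option autoImplicit false

namespace Cfsg.Agent.H54.Classes

variable {K : Type*} [Group K] [Finite K] {A : Type*} [Group A]

/-- Being of 2-power order, as a bound on the prime divisors. -/
theorem isLow_three_iff (x : K) : IsLow 3 x ↔ ∃ n : ℕ, x ^ 2 ^ n = 1 := by
  constructor
  · intro h
    refine ⟨(orderOf x).primeFactorsList.length, orderOf_dvd_iff_pow_eq_one.1 (dvd_of_eq ?_)⟩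
    refine Nat.eq_prime_pow_of_unique_prime_dvd (orderOf_pos x).ne' fun {q} hq hd => ?_
    have := h q hq hd; have := hq.two_le; omega
  · rintro ⟨n, hn⟩ q hq hd
    have := Nat.le_of_dvd two_pos (hq.dvd_of_dvd_pow (hd.trans (orderOf_dvd_iff_pow_eq_one.2 hn)))
    omega

theorem orderOf_two_pow {x : K} {n : ℕ} (h1 : x ^ 2 ^ (n + 1) = 1) (h2 : x ^ 2 ^ n ≠ 1) :
    orderOf x = 2 ^ (n + 1) := by
  haveI : Fact (Nat.Prime 2) := ⟨Nat.prime_two⟩
  exact orderOf_eq_prime_pow h2 h1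

/-- The extension: kernel central of exponent six with a single involution `z`. -/
structure SixExt (f : K →* A) (M : Subgroup A) (z : K) : Prop where
  z_sq : z ^ 2 = 1
  z_ne : z ≠ 1
  z_comm : ∀ k : K, Commute z k
  f_z : f z = 1
  mem : ∀ k : K, f k ∈ M
  surj : ∀ a ∈ M, ∃ k : K, f k = a
  ker_comm : ∀ k : K, f k = 1 → ∀ l : K, Commute k l
  ker_three : ∀ k : K, f k = 1 → k ^ 3 = 1 ∨ (z * k) ^ 3 = 1

namespace SixExt

variable {f : K →* A} {M : Subgroup A} {z : K} (X : SixExt f M z)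
include X

theorem low_ker {k : K} (hk : f k = 1) {n : ℕ} (hn : k ^ 2 ^ n = 1) : k = 1 ∨ k = z := by
  have hcop : ∀ y : K, y ^ 2 ^ n = 1 → y ^ 3 = 1 → y = 1 := fun y h2 h3 => by
    have hg := Nat.dvd_gcd (orderOf_dvd_iff_pow_eq_one.2 h2) (orderOf_dvd_iff_pow_eq_one.2 h3)
    rw [(Nat.Coprime.pow_left n (by norm_num : Nat.Coprime 2 3)).gcd_eq_one] at hg
    exact orderOf_eq_one_iff.1 (Nat.dvd_one.1 hg)
  rcases X.ker_three k hk with h | h
  · exact Or.inl (hcop k hn h)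
  · refine Or.inr ?_
    rcases n with _ | n
    · rw [pow_zero, pow_one] at hn
      subst hn
      exfalso
      rw [mul_one] at h
      exact X.z_ne (by rw [← h, show 3 = 2 + 1 from rfl, pow_add, X.z_sq, one_mul, pow_one])
    · have hzk : z * k = 1 := hcop _ (by
        rw [(X.z_comm k).mul_pow, hn, mul_one, pow_succ', pow_mul, X.z_sq, one_pow]) h
      rw [← mul_one z, ← hzk, ← mul_assoc, ← pow_two, X.z_sq, one_mul]

theorem eq_or_mul {a b : K} (ha : ∃ n : ℕ, a ^ 2 ^ n = 1) (hb : ∃ n : ℕ, b ^ 2 ^ n = 1)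
    (h : f a = f b) : a = b ∨ a = b * z := by
  obtain ⟨m, hm⟩ := ha
  obtain ⟨n, hn⟩ := hb
  have hk : f (b⁻¹ * a) = 1 := by rw [map_mul, map_inv, h, inv_mul_cancel]
  have hab : Commute b a := by
    have hc := X.ker_comm _ hk b
    show b * a = a * b
    calc b * a = b * (b * (b⁻¹ * a)) := by group
      _ = b * ((b⁻¹ * a) * b) := by rw [hc.eq]
      _ = a * b := by group
  rcases X.low_ker hk (n := m + n) (by
    rw [hab.inv_left.mul_pow, inv_pow, pow_add, pow_mul, pow_mul, hm, one_pow, mul_one,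
      ← pow_mul, ← pow_add, add_comm, pow_add, pow_mul, hn, one_pow, inv_one]) with e | e
  · exact Or.inl (inv_mul_eq_one.1 e).symm
  · exact Or.inr (by rw [← e]; group)

theorem le_nine {r : Fin 5 → A}
    (hr : ∀ a ∈ M, ∀ n : ℕ, a ^ 2 ^ n = 1 → ∃ g ∈ M, ∃ i, g * a * g⁻¹ = r i)
    {u k : K} {n : ℕ} (hu : u ^ 2 ^ n = 1) (hk : k * u * k⁻¹ = u * z) : lowCount K 3 ≤ 9 := by
  classical
  have hy' : ∀ i, ∃ y : K, (∃ n : ℕ, y ^ 2 ^ n = 1) ∧
      ((∃ x : K, (∃ n : ℕ, x ^ 2 ^ n = 1) ∧ f x = r i) → f y = r i) := fun i => by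
    by_cases h : ∃ x : K, (∃ n : ℕ, x ^ 2 ^ n = 1) ∧ f x = r i
    · obtain ⟨x, hx, e⟩ := h; exact ⟨x, hx, fun _ => e⟩
    · exact ⟨1, ⟨0, one_pow _⟩, fun h' => absurd h' h⟩
  choose y hy hyr using hy'
  set Φ : Fin 5 × Bool → ConjClasses K := fun q => ConjClasses.mk (bif q.2 then y q.1 * z else y q.1)
  have cover : ∀ g : K, (∃ n : ℕ, g ^ 2 ^ n = 1) →
      ∃ i, IsConj g (y i) ∨ IsConj g (y i * z) := by
    rintro g ⟨m, hm⟩
    obtain ⟨a, ha, i, e⟩ := hr (f g) (X.mem g) m (by rw [← map_pow, hm, map_one])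
    obtain ⟨h, rfl⟩ := X.surj a ha
    have hlow : ∃ n : ℕ, (h * g * h⁻¹) ^ 2 ^ n = 1 :=
      ⟨m, by rw [conj_pow, hm, mul_one, mul_inv_cancel]⟩
    have hf : f (h * g * h⁻¹) = r i := by rw [map_mul, map_mul, map_inv, e]
    refine ⟨i, ?_⟩
    rcases X.eq_or_mul hlow (hy i) (hf.trans (hyr i ⟨_, hlow, hf⟩).symm) with e' | e'
    · exact Or.inl (isConj_iff.2 ⟨h, e'⟩)
    · exact Or.inr (isConj_iff.2 ⟨h, e'⟩)
  have mulz : ∀ {a b : K}, IsConj a b → IsConj (a * z) (b * z) := fun {a b} hab => by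
    obtain ⟨g, rfl⟩ := isConj_iff.1 hab
    refine isConj_iff.2 ⟨g, ?_⟩
    calc g * (a * z) * g⁻¹ = g * a * (z * g⁻¹) := by group
      _ = g * a * (g⁻¹ * z) := by rw [(X.z_comm g⁻¹).eq]
      _ = g * a * g⁻¹ * z := by group
  obtain ⟨i, hi⟩ := cover u ⟨n, hu⟩
  have huu : IsConj u (u * z) := isConj_iff.2 ⟨k, hk⟩
  have hdup : Φ (i, true) = Φ (i, false) := by
    refine ConjClasses.mk_eq_mk_iff_isConj.2 ?_
    show IsConj (y i * z) (y i)
    rcases hi with h | h
    · exact (mulz h).symm.trans (huu.symm.trans h)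
    · have h2 := mulz h
      rw [mul_assoc, ← pow_two, X.z_sq, mul_one] at h2
      exact h.symm.trans (huu.trans h2)
  set T : Finset (ConjClasses K) := (Finset.univ.erase (i, true)).image Φ
  have hT : ∀ q, Φ q ∈ T := fun q => by
    by_cases h : q = (i, true)
    · rw [h, hdup]; exact Finset.mem_image_of_mem _ (by simp)
    · exact Finset.mem_image_of_mem _ (by simp [h])
  have hcard : T.card ≤ 9 := Finset.card_image_le.trans
    (by rw [Finset.card_erase_of_mem (Finset.mem_univ _)]; simp)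
  refine le_trans ?_ hcard
  rw [← Nat.card_eq_finsetCard]
  refine Nat.card_le_card_of_injective (fun d => ⟨d.1, ?_⟩) fun a b e => Subtype.ext (congrArg Subtype.val e :)
  obtain ⟨x, hx, hl⟩ := d.2
  obtain ⟨j, hj | hj⟩ := cover x ((isLow_three_iff x).1 hl)
  · rw [← hx, ConjClasses.mk_eq_mk_iff_isConj.2 hj]; exact hT (j, false)
  · rw [← hx, ConjClasses.mk_eq_mk_iff_isConj.2 hj]; exact hT (j, true)

theorem lowCount_three {r : Fin 5 → A}
    (hr : ∀ a ∈ M, ∀ n : ℕ, a ^ 2 ^ n = 1 → ∃ g ∈ M, ∃ i, g * a * g⁻¹ = r i)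
    (hcent : ∀ a ∈ M, a ^ 8 = 1 → a ^ 4 ≠ 1 → ∀ b ∈ M, Commute b a → b ∈ Subgroup.zpowers a)
    {i u v w k : K}
    (hi2 : i ^ 2 = 1) (hi1 : i ≠ 1) (hiz : i ≠ z)
    (hu4 : u ^ 4 = 1) (hu2 : u ^ 2 ≠ 1) (hk : k * u * k⁻¹ = u * z)
    (hv4 : v ^ 4 = 1) (hv2 : v ^ 2 ≠ 1)
    (hw8 : w ^ 8 = 1) (hw4 : w ^ 4 ≠ 1) (hw4z : w ^ 4 ≠ z)
    (ni : ¬ IsConj i (i * z)) (nv : ¬ IsConj v (v * z)) (nuv : ¬ IsConj u v)
    (nuvz : ¬ IsConj u (v * z)) : lowCount K 3 = 9 := by
  classical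
  refine le_antisymm (X.le_nine hr (n := 2) (by norm_num [hu4]) hk) ?_
  have zi : i * z ≠ 1 := fun e => hiz (by
    rw [← mul_one i, ← X.z_sq, pow_two, ← mul_assoc, e, one_mul])
  have nz : ∀ {a : K}, IsConj z a → a = z := fun {a} h => by
    obtain ⟨g, rfl⟩ := isConj_iff.1 h
    rw [← (X.z_comm g).eq, mul_assoc, mul_inv_cancel, mul_one]
  have nw : ¬ IsConj w (w * z) := fun h => by
    obtain ⟨g, hg⟩ := isConj_iff.1 h
    have hc : Commute (f g) (f w) := by
      have e := congrArg f hg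
      rw [map_mul, map_mul, map_mul, map_inv, X.f_z, mul_one, mul_inv_eq_iff_eq_mul] at e
      exact e
    have h4 : f w ^ 4 ≠ 1 := fun e => by
      rcases X.low_ker (k := w ^ 4) (by rw [map_pow, e]) (n := 1)
        (by rw [← pow_mul]; norm_num [hw8]) with h' | h'
      exacts [hw4 h', hw4z h']
    obtain ⟨j, hj⟩ := Subgroup.mem_zpowers_iff.1 (hcent _ (X.mem w) (by rw [← map_pow, hw8, map_one]) h4
      _ (X.mem g) hc)
    have hker : f ((w ^ j)⁻¹ * g) = 1 := by rw [map_mul, map_inv, map_zpow, hj, inv_mul_cancel]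
    have hcw : Commute g w := by
      have := ((Commute.refl w).zpow_left j).mul_left (X.ker_comm _ hker w)
      rwa [mul_inv_cancel_left] at this
    rw [hcw.eq, mul_assoc, mul_inv_cancel, mul_one] at hg
    exact X.z_ne (mul_eq_left.1 hg.symm)
  set g : Fin 9 → K := ![1, z, i, i * z, u, v, v * z, w, w * z] with hg
  set o : Fin 9 → ℕ := ![1, 2, 2, 2, 4, 4, 4, 8, 8] with ho
  have c2 : ∀ {x : K}, x ^ 2 = 1 → x ≠ 1 → orderOf x = 2 := fun h1 h2 =>
    orderOf_two_pow (n := 0) (by simpa using h1) (by simpa using h2)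
  have c4 : ∀ {x : K}, x ^ 4 = 1 → x ^ 2 ≠ 1 → orderOf x = 4 := fun h1 h2 =>
    orderOf_two_pow (n := 1) (by simpa using h1) (by simpa using h2)
  have c8 : ∀ {x : K}, x ^ 8 = 1 → x ^ 4 ≠ 1 → orderOf x = 8 := fun h1 h2 =>
    orderOf_two_pow (n := 2) (by simpa using h1) (by simpa using h2)
  have pz : ∀ (x : K) (m : ℕ), (x * z) ^ (2 * m) = x ^ (2 * m) := fun x m => by
    rw [(X.z_comm x).symm.mul_pow, pow_mul z, X.z_sq, one_pow, mul_one]
  have hord : ∀ a, orderOf (g a) = o a := by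
    intro a
    fin_cases a
    · exact orderOf_one
    · exact c2 X.z_sq X.z_ne
    · exact c2 hi2 hi1
    · exact c2 ((pz i 1).trans hi2) zi
    · exact c4 hu4 hu2
    · exact c4 hv4 hv2
    · exact c4 ((pz v 2).trans hv4) fun e => hv2 ((pz v 1).symm.trans e)
    · exact c8 hw8 hw4
    · exact c8 ((pz w 4).trans hw8) fun e => hw4 ((pz w 2).symm.trans e)
  have hlow : ∀ a, IsLow 3 (g a) := fun a => (isLow_three_iff _).2 ⟨3, by
    refine orderOf_dvd_iff_pow_eq_one.1 ?_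
    rw [hord, ho]
    fin_cases a <;> decide⟩
  have nii : ¬ IsConj (i * z) z := fun h => hi1 (mul_eq_right.1 (nz h.symm))
  refine le_trans (le_of_eq (by rw [Nat.card_fin] : 9 = Nat.card (Fin 9))) ?_
  refine Nat.card_le_card_of_injective (fun a => ⟨ConjClasses.mk (g a), g a, rfl, hlow a⟩) fun a b e => ?_
  have hc : IsConj (g a) (g b) := ConjClasses.mk_eq_mk_iff_isConj.1 (congrArg Subtype.val e)
  have he : o a = o b := by rw [← hord, ← hord]; exact orderOf_eq_of_isConj hc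
  rw [ho] at he
  rw [hg] at hc
  fin_cases a <;> fin_cases b <;> first
    | rfl
    | exact absurd he (by decide)
    | exact absurd (nz hc) hiz
    | exact absurd (nz hc.symm) hiz
    | exact absurd hc.symm nii
    | exact absurd hc nii
    | exact absurd hc ni
    | exact absurd hc.symm ni
    | exact absurd hc nv
    | exact absurd hc.symm nv
    | exact absurd hc nuv
    | exact absurd hc.symm nuv
    | exact absurd hc nuvz
    | exact absurd hc.symm nuvz
    | exact absurd hc nw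
    | exact absurd hc.symm nw

end SixExt

end Cfsg.Agent.H54.Classes
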