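import Cfsg.Agent.H16.J4Low.Word

/-!
Rank certificates for packed matrices over the field with two elements.
-/

set_option autoImplicit false

namespace Cfsg.Agent.H54.Classes

open Cfsg.Agent.H45.J4Mat Cfsg.Agent.H45.J4Rep Cfsg.Agent.H16.J4Low Matrix

theorem toMat_xor (d a b : ℕ) : toMat d (a ^^^ b) = toMat d a + toMat d b := by
  ext i j
  change bz _ = bz _ + bz _
  rw [Nat.testBit_xor, bz_xor]

theorem toMat_oneN_le {d r : ℕ} (hr : r ≤ d) :
    toMat d (oneN d r) = Matrix.diagonal fun i : Fin d => bz (decide ((i : ℕ) < r)) := by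
  ext i j
  change bz _ = _
  rw [testBit_oneN, Matrix.diagonal_apply]
  split
  · rename_i h
    subst h
    refine congrArg bz (decide_eq_decide.2 ⟨fun ⟨k, hk, e⟩ => ?_, fun h => ⟨i, h, by ring⟩⟩)
    have hki : (i : ℕ) = k := Nat.eq_of_mul_eq_mul_left (show 0 < d + 1 by omega) (by linarith)
    omega
  · rename_i h
    rw [decide_eq_false]
    · rfl
    rintro ⟨k, hk, e⟩
    have e1 : (d * (i : ℕ) + j) / d = ((d + 1) * k) / d := by rw [e]
    have hd : 0 < d := i.pos
    rw [Nat.mul_add_div hd, Nat.div_eq_of_lt j.isLt, add_zero, add_mul, one_mul,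
      Nat.mul_add_div hd, Nat.div_eq_of_lt (by omega : k < d), add_zero] at e1
    have hj : (j : ℕ) = k := by rw [e1] at e; linarith
    exact h (Fin.ext (e1.trans hj.symm))

theorem rank_oneN {d r : ℕ} (hr : r ≤ d) : (toMat d (oneN d r)).rank = r := by
  classical
  rw [toMat_oneN_le hr, Matrix.rank_diagonal]
  refine (Fintype.card_congr ((Equiv.subtypeEquivRight fun i => ?_).trans (Fin.castLEquiv hr).symm)).trans
    (Fintype.card_fin r)
  by_cases h : (i : ℕ) < r <;> simp [bz, h]

/-- An upper bound from a factorisation. -/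
theorem rank_le_of_cert {d r M A B : ℕ} (hr : r ≤ d)
    (h : Nat.beq (mulN d (mulN d A (oneN d r)) B) M = true) : (toMat d M).rank ≤ r := by
  rw [← Nat.eq_of_beq_eq_true h, toMat_mulN, toMat_mulN]
  refine (Matrix.rank_mul_le_left _ _).trans ((Matrix.rank_mul_le_right _ _).trans (rank_oneN hr).le)

/-- A lower bound from a reduction. -/
theorem le_rank_of_cert {d r M A B : ℕ} (hr : r ≤ d)
    (h : Nat.beq (mulN d (mulN d A M) B) (oneN d r) = true) : r ≤ (toMat d M).rank := by
  refine (rank_oneN hr).symm.le.trans ?_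
  rw [← Nat.eq_of_beq_eq_true h, toMat_mulN, toMat_mulN]
  exact (Matrix.rank_mul_le_left _ _).trans (Matrix.rank_mul_le_right _ _)

/-- The rank of the powers of `u + 1` is an invariant of conjugacy. -/
theorem rank_conj {u v : GL112} {g : GL112} (h : g * u * g⁻¹ = v) (k : ℕ) :
    (((u : Matrix (Fin 112) (Fin 112) (ZMod 2)) + 1) ^ k).rank =
      (((v : Matrix (Fin 112) (Fin 112) (ZMod 2)) + 1) ^ k).rank := by
  have e : ((g : Matrix (Fin 112) (Fin 112) (ZMod 2)) * ((u : Matrix (Fin 112) (Fin 112) (ZMod 2)) + 1)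
      * (g⁻¹ : GL112)) = (v : Matrix (Fin 112) (Fin 112) (ZMod 2)) + 1 := by
    rw [← h, Units.val_mul, Units.val_mul, mul_add, add_mul, mul_one, Units.mul_inv]
  rw [← e, Units.conj_pow,
    Matrix.rank_mul_eq_left_of_isUnit_det _ _ ((Matrix.isUnit_iff_isUnit_det _).1 (Units.isUnit _)),
    Matrix.rank_mul_eq_right_of_isUnit_det _ _ ((Matrix.isUnit_iff_isUnit_det _).1 (Units.isUnit _))]

/-- The `k`-th power of `n + 1`, packed. -/
noncomputable def partN (n k : ℕ) : ℕ := powN 112 (n ^^^ oneN 112 112) k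

theorem rank_part {u : GL112} {n : ℕ} (hu : Val u n) (k : ℕ) :
    (((u : Matrix (Fin 112) (Fin 112) (ZMod 2)) + 1) ^ k).rank = (toMat 112 (partN n k)).rank := by
  unfold Val at hu
  rw [partN, toMat_powN, toMat_xor, toMat_oneN, hu]

/-- Different ranks rule out conjugacy. -/
theorem not_conj_of_rank {G : Type*} [Group G] (f : G →* GL112) {a b : G} {m n k r s : ℕ}
    (ha : Val (f a) m) (hb : Val (f b) n) (h1 : (toMat 112 (partN m k)).rank ≤ r)
    (h2 : s ≤ (toMat 112 (partN n k)).rank) (hrs : r < s) : ¬ IsConj a b := fun h => by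
  obtain ⟨g, hg⟩ := isConj_iff.1 h
  have e : f g * f a * (f g)⁻¹ = f b := by rw [← hg, map_mul, map_mul, map_inv]
  have := rank_conj e k
  rw [rank_part ha, rank_part hb] at this
  omega

end Cfsg.Agent.H54.Classes
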