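import Cfsg.Agent.H54.JFour.Classes.ThreeWords.Data5
import Cfsg.Agent.H54.JFour.Classes.ThreeWords.Ranks
import Cfsg.Agent.H54.JFour.Classes.ThreeRank

/-!
Elements of the fourth Janko group centralising an element of order three.
-/

set_option autoImplicit false

namespace Cfsg.Agent.H54.Classes

open Cfsg Cfsg.Spor Cfsg.Agent.H45.J4Mat Cfsg.Agent.H45.J4Rep Cfsg.Agent.H16.J4Low

universe u

/-- Test of the group relations. -/
noncomputable def relTest : Bool :=
  Nat.beq (powN 112 w14 3) (oneN 112 112) && neB 112 w14 (oneN 112 112) &&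
  Nat.beq (powN 112 w15 2) (oneN 112 112) && neB 112 w15 (oneN 112 112) &&
  Nat.beq (powN 112 w16 11) (oneN 112 112) && neB 112 w16 (oneN 112 112) &&
  Nat.beq (mulN 112 w15 w16) (mulN 112 w16 w15) &&
  Nat.beq (mulN 112 w15 w14) (mulN 112 w14 w15) &&
  Nat.beq (mulN 112 w16 w14) (mulN 112 w14 w16) &&
  Nat.beq (mulN 112 w55 w14) (mulN 112 w14 w55) &&
  Nat.beq (mulN 112 w38 w14) (mulN 112 w14 w38) &&
  Nat.beq (mulN 112 w59 w14) (mulN 112 w14 w59) &&
  Nat.beq (mulN 112 w58 w14) (mulN 112 w14 w58) &&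
  Nat.beq (mulN 112 w93 w14) (mulN 112 w14 w93) &&
  Nat.beq (powN 112 w55 2) (oneN 112 112) && neB 112 w55 (oneN 112 112) && neB 112 w55 w15 &&
  Nat.beq (powN 112 w38 4) (oneN 112 112) && neB 112 (powN 112 w38 2) (oneN 112 112) &&
  Nat.beq (powN 112 w59 4) (oneN 112 112) && neB 112 (powN 112 w59 2) (oneN 112 112) &&
  Nat.beq (powN 112 w58 8) (oneN 112 112) && neB 112 (powN 112 w58 4) (oneN 112 112) &&
  neB 112 (powN 112 w58 4) w15 &&
  Nat.beq (mulN 112 w93 w38) (mulN 112 (mulN 112 w38 w15) w93)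

theorem relTest_ok : relTest = true := by decide +kernel

theorem rank_i : (toMat 112 (partN w55 1)).rank ≤ 50 :=
  rank_le_of_cert (A := riA) (B := riB) (by norm_num) (by decide +kernel)

theorem rank_iz : 56 ≤ (toMat 112 (partN (mulN 112 w55 w15) 1)).rank :=
  le_rank_of_cert (A := rizL) (B := rizR) (by norm_num) (by decide +kernel)

theorem rank_v : 24 ≤ (toMat 112 (partN w59 3)).rank :=
  le_rank_of_cert (A := rvL) (B := rvR) (by norm_num) (by decide +kernel)

theorem rank_v' : (toMat 112 (partN w59 3)).rank ≤ 24 :=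
  rank_le_of_cert (A := rvHiA) (B := rvHiB) (by norm_num) (by decide +kernel)

theorem rank_vz : (toMat 112 (partN (mulN 112 w59 w15) 3)).rank ≤ 20 :=
  rank_le_of_cert (A := rvzA) (B := rvzB) (by norm_num) (by decide +kernel)

theorem rank_u : 28 ≤ (toMat 112 (partN w38 3)).rank :=
  le_rank_of_cert (A := ruL) (B := ruR) (by norm_num) (by decide +kernel)

/-- The elements needed for the classes in the centraliser of an element of order three. -/
structure Witness {G : Type u} [Group G] (t z e i u v w k : G) : Prop where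
  ord_t : orderOf t = 3
  z_sq : z ^ 2 = 1
  z_ne : z ≠ 1
  ord_e : orderOf e = 11
  ze : Commute z e
  cz : Commute z t
  ce : Commute e t
  ci : Commute i t
  cu : Commute u t
  cv : Commute v t
  cw : Commute w t
  ck : Commute k t
  i_sq : i ^ 2 = 1
  i_ne : i ≠ 1
  i_ne_z : i ≠ z
  u_four : u ^ 4 = 1
  u_two : u ^ 2 ≠ 1
  v_four : v ^ 4 = 1
  v_two : v ^ 2 ≠ 1
  w_eight : w ^ 8 = 1
  w_four : w ^ 4 ≠ 1
  w_four_z : w ^ 4 ≠ z
  kuk : k * u * k⁻¹ = u * z
  ni : ¬ IsConj i (i * z)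
  nv : ¬ IsConj v (v * z)
  nuv : ¬ IsConj u v
  nuvz : ¬ IsConj u (v * z)

theorem exists_witness {G : Type u} [Group G] [IsSimpleGroup G] (hI : Spor.IsoJ4 G) :
    ∃ t z e i u v w k : G, Witness t z e i u v w k := by
  obtain ⟨φ⟩ := hI
  set f : G →* GL112 := rho.comp φ.toMonoidHom with hf
  have hinj : Function.Injective f := by
    rw [← f.ker_eq_bot_iff]
    refine (IsSimpleGroup.eq_bot_or_eq_top_of_normal f.ker inferInstance).resolve_right fun h => ?_
    refine ux_ne_one ?_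
    have hm : φ.symm (PresentedGroup.of J4.Gen.x) ∈ f.ker := h ▸ Subgroup.mem_top _
    rw [MonoidHom.mem_ker, hf, MonoidHom.comp_apply, MulEquiv.coe_toMonoidHom, φ.apply_symm_apply,
      rho_of] at hm
    exact hm
  have lift : ∀ {n : ℕ}, Has n → ∃ g : G, Val (f g) n := fun {n} h => by
    obtain ⟨g, hg⟩ := h
    exact ⟨φ.symm g, by rw [hf, MonoidHom.comp_apply, MulEquiv.coe_toMonoidHom, φ.apply_symm_apply]; exact hg⟩
  obtain ⟨t, ht⟩ := lift has14
  obtain ⟨z, hz⟩ := lift has15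
  obtain ⟨e, he⟩ := lift has16
  obtain ⟨i, hi⟩ := lift has55
  obtain ⟨u, hu⟩ := lift has38
  obtain ⟨v, hv⟩ := lift has59
  obtain ⟨w, hw⟩ := lift has58
  obtain ⟨k, hk⟩ := lift has93
  have p1 : ∀ {g : G} {n : ℕ} (m : ℕ), Val (f g) n →
      Nat.beq (powN 112 n m) (oneN 112 112) = true → g ^ m = 1 := fun m hg h =>
    hinj (by rw [map_pow, map_one]; exact hg.pow_eq_one m h)
  have p2 : ∀ {g h : G} {m n : ℕ}, Val (f g) m → Val (f h) n → neB 112 m n = true → g ≠ h :=
    fun hg hh h e => hg.ne hh h (congrArg f e)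
  have one : Val (f (1 : G)) (oneN 112 112) := by rw [map_one]; exact Val.one
  have pw : ∀ {g : G} {n : ℕ} (m : ℕ), Val (f g) n → Val (f (g ^ m)) (powN 112 n m) := fun m hg => by
    rw [map_pow]; exact hg.pow' m
  have ml : ∀ {g h : G} {m n : ℕ}, Val (f g) m → Val (f h) n → Val (f (g * h)) (mulN 112 m n) :=
    fun hg hh => by rw [map_mul]; exact hg.mul' hh
  have pc : ∀ {g h : G} {m n : ℕ}, Val (f g) m → Val (f h) n →
      Nat.beq (mulN 112 m n) (mulN 112 n m) = true → Commute g h := fun hg hh h =>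
    hinj (by rw [map_mul, map_mul]; exact (hg.commute hh h).eq)
  have H := relTest_ok
  simp only [relTest, Bool.and_eq_true] at H
  obtain ⟨⟨⟨⟨⟨⟨⟨⟨⟨⟨⟨⟨⟨⟨⟨⟨⟨⟨⟨⟨⟨⟨⟨⟨h1, h2⟩, h3⟩, h4⟩, h5⟩, h6⟩, h7⟩, h8⟩, h9⟩, h10⟩, h11⟩, h12⟩,
    h13⟩, h14⟩, h15⟩, h16⟩, h17⟩, h18⟩, h19⟩, h20⟩, h21⟩, h22⟩, h23⟩, h24⟩, h25⟩ := H
  haveI : Fact (Nat.Prime 11) := ⟨by norm_num⟩
  refine ⟨t, z, e, i, u, v, w, k, ?_⟩
  exact
    { ord_t := orderOf_eq_prime (p1 3 ht h1) (p2 ht one h2)
      z_sq := p1 2 hz h3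
      z_ne := p2 hz one h4
      ord_e := orderOf_eq_prime (p1 11 he h5) (p2 he one h6)
      ze := pc hz he h7
      cz := pc hz ht h8
      ce := pc he ht h9
      ci := pc hi ht h10
      cu := pc hu ht h11
      cv := pc hv ht h12
      cw := pc hw ht h13
      ck := pc hk ht h14
      i_sq := p1 2 hi h15
      i_ne := p2 hi one h16
      i_ne_z := p2 hi hz h17
      u_four := p1 4 hu h18
      u_two := p2 (pw 2 hu) one h19
      v_four := p1 4 hv h20
      v_two := p2 (pw 2 hv) one h21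
      w_eight := p1 8 hw h22
      w_four := p2 (pw 4 hw) one h23
      w_four_z := p2 (pw 4 hw) hz h24
      kuk := mul_inv_eq_iff_eq_mul.2 (hinj (by
        have a1 := ml hk hu
        have a2 := ml (ml hu hz) hk
        exact a1.eq a2 h25))
      ni := not_conj_of_rank f hi (ml hi hz) rank_i rank_iz (by norm_num)
      nv := fun h => not_conj_of_rank f (ml hv hz) hv rank_vz rank_v (by norm_num) h.symm
      nuv := fun h => not_conj_of_rank f hv hu rank_v' rank_u (by norm_num) h.symm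
      nuvz := fun h => not_conj_of_rank f (ml hv hz) hu rank_vz rank_u (by norm_num) h.symm }

end Cfsg.Agent.H54.Classes
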