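import Cfsg.Agent.H54.JFour.Classes.TwoData
import Cfsg.Agent.H85.JFour.AutM22.Main
import Cfsg.Agent.Golay.CoTwoPerms

/-!
The Mathieu group on 22 points, as inner automorphisms: its elements of 2-power order fall into at most five
classes and an element of order 8 generates its own centraliser.
-/

set_option autoImplicit false

namespace Cfsg.Agent.H54.Classes

open Cfsg Cfsg.Agent.Golay Cfsg.Agent.H94.M24 Cfsg.Agent.H85.AutM22
open scoped Pointwise

/-- Test of one conjugator. -/
def rowOK (row : ℕ × ℕ × ℕ) : Bool :=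
  ok row.2.2 && app row.2.2 23 == 23 && decide (row.2.1 < 5) &&
    carries row.2.2 row.1 (twoRep.getD row.2.1 0)

/-- Test of the list of conjugators. -/
def twoTest : Bool :=
  (sList.all fun t => app t 23 != 23 || twoRows.any fun row => row.1 == t) &&
    twoRows.all rowOK &&
    (twoRep.all fun t => ok t && app t 23 == 23) &&
    (sList.any fun t => app t 23 != 23)

theorem twoTest_ok : twoTest = true := by decide +kernel

theorem rep_good (i : Fin 5) : Good (twoRep.getD i 0) ∧ app (twoRep.getD i 0) 23 = 23 := by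
  have h := twoTest_ok
  simp only [twoTest, Bool.and_eq_true, List.all_eq_true, beq_iff_eq] at h
  have hlen : twoRep.length = 5 := rfl
  have := h.1.2 _ (show twoRep.getD i 0 ∈ twoRep by
    rw [List.getD_eq_getElem _ _ (by omega)]; exact List.getElem_mem _)
  exact ⟨good_ok this.1, this.2⟩

theorem exists_conj_sylS_inner {a : ↥pairGrp} (ha : IsPGroup 2 (Subgroup.zpowers a)) :
    ∃ g ∈ innerGrp, g * a * g⁻¹ ∈ sylS := by
  obtain ⟨g, hg⟩ := exists_conj_le ha
  have hga : g * a * g⁻¹ ∈ sylS := hg ⟨a, Subgroup.mem_zpowers a, rfl⟩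
  by_cases hgi : g ∈ innerGrp
  · exact ⟨g, hgi, hga⟩
  have h := twoTest_ok
  simp only [twoTest, Bool.and_eq_true, List.any_eq_true, bne_iff_ne, ne_eq] at h
  obtain ⟨t, ht, hne⟩ := h.2
  have hts : el t ∈ sylS := mem_sylS.2 ⟨t, ht, rfl⟩
  have hto : el t ∉ innerGrp := fun e => hne ((isInner_iff (good_sList ht)).1 e)
  refine ⟨el t * g, (Subgroup.mul_mem_iff_of_index_two index_innerGrp).2 (iff_of_false hto hgi), ?_⟩
  rw [show el t * g * a * (el t * g)⁻¹ = el t * (g * a * g⁻¹) * (el t)⁻¹ by group]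
  exact mul_mem (mul_mem hts hga) (inv_mem hts)

theorem inner_two_reps {a : ↥pairGrp} (ha : a ∈ innerGrp) {k : ℕ} (hk : a ^ 2 ^ k = 1) :
    ∃ g ∈ innerGrp, ∃ i : Fin 5, g * a * g⁻¹ = el (twoRep.getD i 0) := by
  obtain ⟨g, hg, hs⟩ := exists_conj_sylS_inner (a := a) fun b => by
    obtain ⟨j, hj⟩ := Subgroup.mem_zpowers_iff.1 b.2
    exact ⟨k, Subtype.ext (by
      rw [SubmonoidClass.coe_pow, ← hj, ← zpow_natCast, zpow_comm, zpow_natCast, hk, one_zpow]; rfl)⟩
  have hai : g * a * g⁻¹ ∈ innerGrp := innerGrp_normal.conj_mem a ha g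
  obtain ⟨t, ht, e⟩ := mem_sylS.1 hs
  rw [← e] at hai
  have h := twoTest_ok
  simp only [twoTest, Bool.and_eq_true, List.all_eq_true, Bool.or_eq_true, List.any_eq_true,
    bne_iff_ne, ne_eq, beq_iff_eq] at h
  rcases h.1.1.1 t ht with hne | ⟨row, hrow, rfl⟩
  · exact absurd ((isInner_iff (good_sList ht)).1 hai) hne
  have hr := h.1.1.2 row hrow
  simp only [rowOK, Bool.and_eq_true, beq_iff_eq, decide_eq_true_eq] at hr
  obtain ⟨⟨⟨hC, hC23⟩, hlt⟩, hcar⟩ := hr
  refine ⟨el row.2.2 * g, mul_mem ((isInner_iff (good_ok hC)).2 hC23) hg, ⟨row.2.1, hlt⟩, ?_⟩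
  rw [show el row.2.2 * g * a * (el row.2.2 * g)⁻¹ = el row.2.2 * (g * a * g⁻¹) * (el row.2.2)⁻¹ by group,
    ← e]
  exact ((good_ok hC).carries_iff (good_sList ht) (rep_good ⟨_, hlt⟩).1).1 hcar

/-- The representative of order 8. -/
def rEight : ℕ := twoRep.getD 0 0

/-- A power of the representative. -/
def powE (k : ℕ) : ℕ := eightPow.getD k 0

/-- The points that may be images of a base point. -/
def eightCand (b : ℕ) : List ℕ :=
  if b = 23 ∨ b = 0 then [b]
  else (List.range 24).filter fun i => (List.range 8).all fun k =>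
    (app (powE k) i == i) == (app (powE k) b == b)

/-- The commuting table with given images of the base points. -/
def eightTbl (ims : List ℕ) : ℕ :=
  mkTbl 24 fun i => app (powE (eightCode.getD i (0, 0)).2) (ims.getD (eightCode.getD i (0, 0)).1 0)

/-- All choices, one from each list. -/
def choices : List (List ℕ) → List (List ℕ)
  | [] => [[]]
  | l :: L => (choices L).flatMap fun r => l.map (· :: r)

theorem mem_choices : ∀ (bs : List ℕ) (f : ℕ → ℕ) (cand : ℕ → List ℕ),
    (∀ b ∈ bs, f b ∈ cand b) → bs.map f ∈ choices (bs.map cand)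
  | [], _, _, _ => List.mem_singleton.2 rfl
  | b :: bs, f, cand, h => by
    simp only [List.map_cons, choices, List.mem_flatMap, List.mem_map]
    exact ⟨bs.map f, mem_choices bs f cand fun x hx => h x (List.mem_cons_of_mem _ hx),
      f b, h b List.mem_cons_self, rfl⟩

/-- Test for the centraliser. -/
def eightTest : Bool :=
  ((choices (eightBases.map eightCand)).all fun ims =>
      forceN (eightTbl ims) fun T => !inM24 T || ((List.range 8).any fun k => powE k == T)) &&
    ((List.range 24).all fun i =>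
      let cd := eightCode.getD i (0, 0)
      decide (cd.1 < eightBases.length) && decide (cd.2 < 8) &&
        app (powE cd.2) (eightBases.getD cd.1 0) == i) &&
    (eightBases.all fun b => decide (b < 24)) && ok rEight &&
    powE 4 != idTblVal && ((List.range 8).all fun k => powT k rEight == powE k) &&
    ((twoRep.drop 1).all fun t => powT 4 t == idTblVal)

theorem eightTest_ok : eightTest = true := by decide +kernel

theorem eight_facts :
    Good rEight ∧ app rEight 23 = 23 ∧ powE 4 ≠ idTblVal := by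
  refine ⟨(rep_good 0).1, (rep_good 0).2, ?_⟩
  have h := eightTest_ok
  simp only [eightTest, Bool.and_eq_true, bne_iff_ne, ne_eq] at h
  exact h.1.1.2

theorem cent_rEight {g : ↥pairGrp} (hg : g ∈ innerGrp) (hc : Commute g (el rEight)) :
    g ∈ Subgroup.zpowers (el rEight) := by
  obtain ⟨hr, -, -⟩ := eight_facts
  have h := eightTest_ok
  simp only [eightTest, Bool.and_eq_true, List.all_eq_true, List.mem_range, decide_eq_true_eq,
    forceN_eq, Bool.or_eq_true, Bool.not_eq_true', List.any_eq_true, beq_iff_eq] at h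
  obtain ⟨⟨⟨⟨⟨⟨hall, hcode⟩, hb24⟩, -⟩, -⟩, hpow⟩, -⟩ := h
  set T := tb g with hT
  have hgT : Good T := good_tb g
  have hT23 : app T 23 = 23 := (isInner_iff hgT).1 (by rwa [hT, el_tb])
  have hT0 : app T 0 = 0 := by
    have hm : (g : Equiv.Perm GolayPt) ∈ Spor.M22 := Subgroup.mem_subgroupOf.1 hg
    have h0 := (S5599.mem_M22.1 hm).2.2
    rw [← el_tb g, ← hT, hgT.app_eq, ← pt_values.2] at h0
    rw [show idx (pt 0) = 0 by decide] at h0
    exact (pt_inj ((validT_bijective hgT.valid).2 0 (by norm_num)) (by norm_num)).1 h0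
  have hlt : ∀ i < 24, app T i < 24 := (validT_bijective hgT.valid).2
  have hpg : ∀ k < 8, Good (powE k) ∧ el (powE k) = el rEight ^ k := fun k hk => hpow k hk ▸ hr.pow k
  have hcomm : ∀ k i, k < 8 → i < 24 → app T (app (powE k) i) = app (powE k) (app T i) := by
    intro k i hk hi
    have e : tblMul T (powE k) = tblMul (powE k) T := by
      refine (hgT.comm_iff (hpg k hk).1).2 ?_
      rw [hT, el_tb, (hpg k hk).2]
      exact (hc.pow_right k).eq
    have e' := congrArg (fun X => app X i) e
    simp only [app_tblMul hi] at e'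
    exact e'
  have hmem : eightTbl (eightBases.map (app T)) = T := by
    have hc' := hgT.canon
    rw [canonT, Bool.and_eq_true, beq_iff_eq] at hc'
    conv_rhs => rw [← hc'.2]
    rw [eightTbl]
    refine Golay.mkTbl_congr fun i hi => ?_
    obtain ⟨⟨h1, h2⟩, h3⟩ := hcode i hi
    rw [List.getD_eq_getElem _ _ h1] at h3
    rw [List.getD_eq_getElem (eightBases.map (app T)) _ (by rw [List.length_map]; exact h1),
      List.getElem_map]
    conv_rhs => rw [← h3]
    exact (hcomm _ _ h2 (hb24 _ (List.getElem_mem _))).symm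
  have hch : eightBases.map (app T) ∈ choices (eightBases.map eightCand) := by
    refine mem_choices _ _ _ fun b hb => ?_
    unfold eightCand
    split
    · rename_i hb'
      rcases hb' with rfl | rfl
      · rw [hT23]; exact List.mem_singleton.2 rfl
      · rw [hT0]; exact List.mem_singleton.2 rfl
    · have hb' := hb24 b hb
      simp only [List.mem_filter, List.mem_range, List.all_eq_true, beq_iff_eq]
      refine ⟨hlt b hb', fun k hk => ?_⟩
      rw [← hcomm k b hk hb', Bool.eq_iff_iff, beq_iff_eq, beq_iff_eq]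
      refine ⟨fun e => ?_, fun e => by rw [e]⟩
      have hi := (validT_bijective (hpg k hk).1.valid).2 b hb'
      exact (pt_inj hi hb').1 ((mkPerm T).injective (by
        rw [mkPerm_pt hgT.valid hi, mkPerm_pt hgT.valid hb', e]))
  rcases hall _ hch with hn | ⟨k, hk8, hk⟩
  · rw [hmem] at hn
    exact absurd ((CoTwo.inM24_tblOf ⟨(g : Equiv.Perm GolayPt), g.2.1⟩).symm.trans hn) (by simp)
  · rw [hmem] at hk
    rw [← el_tb g, ← hT, ← hk, (hpg k hk8).2]
    exact Subgroup.pow_mem _ (Subgroup.mem_zpowers _) k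

/-- Inner automorphisms of the Mathieu group on 22 points of 2-power order form at most five classes. -/
theorem inn_two_reps : ∃ r : Fin 5 → MulAut ↥Spor.M22,
    (∀ a ∈ (MulAut.conj : ↥Spor.M22 →* MulAut ↥Spor.M22).range, ∀ k : ℕ, a ^ 2 ^ k = 1 →
      ∃ g ∈ (MulAut.conj : ↥Spor.M22 →* MulAut ↥Spor.M22).range, ∃ i, g * a * g⁻¹ = r i) ∧
    ∀ a ∈ (MulAut.conj : ↥Spor.M22 →* MulAut ↥Spor.M22).range, a ^ 8 = 1 → a ^ 4 ≠ 1 →
      ∀ b ∈ (MulAut.conj : ↥Spor.M22 →* MulAut ↥Spor.M22).range, Commute b a →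
        b ∈ Subgroup.zpowers a := by
  refine ⟨fun i => autEquiv (el (twoRep.getD i 0)), ?_, ?_⟩
  · rw [← map_innerGrp]
    rintro _ ⟨a, ha, rfl⟩ k hk
    obtain ⟨g, hg, i, e⟩ := inner_two_reps ha (k := k)
      (autEquiv.injective (by rw [map_pow, map_one]; exact hk))
    exact ⟨autEquiv g, ⟨g, hg, rfl⟩, i, by
      show autEquiv g * autEquiv a * (autEquiv g)⁻¹ = autEquiv (el (twoRep.getD i 0))
      rw [← e, map_mul, map_mul, map_inv]⟩
  · rw [← map_innerGrp]
    rintro _ ⟨a, ha, rfl⟩ h8 h4 _ ⟨b, hb, rfl⟩ hc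
    obtain ⟨g, hg, i, e⟩ := inner_two_reps ha (k := 3)
      (autEquiv.injective (by rw [map_pow, map_one]; exact h8))
    have hi : i = 0 := by
      by_contra hi
      refine h4 ?_
      have h := eightTest_ok
      simp only [eightTest, Bool.and_eq_true, List.all_eq_true, beq_iff_eq] at h
      have hlen : twoRep.length = 5 := rfl
      have hi1 : 1 ≤ (i : ℕ) := Nat.one_le_iff_ne_zero.2 fun e0 => hi (Fin.ext e0)
      have hmem : twoRep.getD i 0 ∈ twoRep.drop 1 := by
        rw [List.getD_eq_getElem _ _ (by omega), List.mem_iff_getElem]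
        exact ⟨(i : ℕ) - 1, by rw [List.length_drop]; omega, by rw [List.getElem_drop]; congr 1; omega⟩
      have h1 : (g * a * g⁻¹) ^ 4 = 1 := by
        rw [e, ← ((rep_good i).1.pow 4).2, h.2 _ hmem, el_id]
      rw [conj_pow, conj_eq_one_iff] at h1
      show (autEquiv a) ^ 4 = 1
      rw [← map_pow, h1, map_one]
    subst hi
    have hbg : g * b * g⁻¹ ∈ Subgroup.zpowers (el rEight) := by
      refine cent_rEight (innerGrp_normal.conj_mem b hb g) ?_
      show Commute (g * b * g⁻¹) (el (twoRep.getD ((0 : Fin 5) : ℕ) 0))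
      rw [← e]
      exact (show Commute b a from autEquiv.injective (by
        simpa [map_mul] using hc.eq)).map (MulAut.conj g).toMonoidHom
    obtain ⟨j, hj⟩ := Subgroup.mem_zpowers_iff.1 hbg
    have hb' : a ^ j = b := by
      have : (g * a * g⁻¹) ^ j = g * b * g⁻¹ := by rw [e]; exact hj
      rw [conj_zpow] at this
      exact mul_left_cancel (mul_right_cancel this)
    exact Subgroup.mem_zpowers_iff.2 ⟨j, by
      show (autEquiv a) ^ j = autEquiv b
      rw [← map_zpow, hb']⟩

end Cfsg.Agent.H54.Classes
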