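import Cfsg.Agent.H54.JFour.Classes.ThreeCount
import Cfsg.Agent.H54.JFour.Classes.Prime
import Cfsg.Agent.H54.JFour.Classes.ThreeElems
import Cfsg.Agent.H54.JFour.Classes.TwoReps
import Cfsg.Agent.H43.J4.Main
import Cfsg.Agent.H43.J4.Bridge
import Cfsg.Agent.H69.JFourSylow.AutEleven
import Cfsg.Agent.H99.J4U.Final

/-!
A group of Janko-four type has nine classes of elements whose order has largest prime divisor three.
-/

set_option autoImplicit false

namespace Cfsg.Agent.H54.Classes

open Subgroup Cfsg.Agent.H43.JFour Cfsg.Agent.H43.JFour.Ctx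

universe u

/-- The automorphism group of the Mathieu group on 22 points. -/
abbrev A22 : Type := MulAut ↥Cfsg.Spor.M22

variable {G : Type u} [Group G] [Finite G]

theorem lowCount_witness (c : Ctx G A22) (hc : c.Ok) {t z e i x v w k : G}
    (W : Witness t z e i x v w k) (htP : c.C = centralizer ({t} : Set G)) :
    lowCount c.C 3 = 9 := by
  classical
  have hd := H85.AutM22.autData
  obtain ⟨r, hr, hcent⟩ := inn_two_reps
  set f : c.C →* A22 := hc.prHom.comp (Subgroup.inclusion (inf_le_left : c.C ≤ c.H)) with hf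
  have hfv : ∀ a : c.C, f a = c.pr a := fun a => rfl
  set Z : c.C := ⟨c.z, hc.z_mem_C⟩
  have hP3 : ∀ q ∈ c.P, q ^ 3 = 1 := fun q hq => by
    have h := pow_card_eq_one' (x := (⟨q, hq⟩ : c.P))
    rw [hc.cardP] at h
    exact congrArg Subtype.val h
  have X : SixExt f (MulAut.conj : ↥Spor.M22 →* A22).range Z :=
    { z_sq := Subtype.ext (by rw [SubmonoidClass.coe_pow, pow_two]; exact hc.z_sq)
      z_ne := fun h => hc.z_ne (congrArg Subtype.val h)
      z_comm := fun a => Subtype.ext (c.mem_H.1 a.2.1)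
      f_z := by rw [hfv]; exact hc.pr_E hc.z_mem
      mem := fun a => by rw [hfv]; exact (hc.mem_C_iff hd (c.C_le_Nh a.2)).1 a.2
      surj := fun a ha => by
        obtain ⟨n, hn, e'⟩ := hc.C_surj hd ha
        exact ⟨⟨n, hn⟩, e'⟩
      ker_comm := fun a ha b => by
        obtain ⟨q, hq, e'⟩ := hc.C_ker a.2 (by rw [← hfv]; exact ha)
        have h1 : Commute q (b : G) := hc.P_central hq b.2
        rcases e' with e' | e' <;> refine Subtype.ext ?_ <;> rw [Subgroup.coe_mul, Subgroup.coe_mul, e']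
        · exact h1.eq
        · exact ((show Commute c.z (b : G) from c.mem_H.1 b.2.1).mul_left h1).eq
      ker_three := fun a ha => by
        obtain ⟨q, hq, e'⟩ := hc.C_ker a.2 (by rw [← hfv]; exact ha)
        rcases e' with e' | e'
        · exact Or.inl (Subtype.ext (by rw [SubmonoidClass.coe_pow, e', hP3 q hq]; rfl))
        · refine Or.inr (Subtype.ext ?_)
          rw [SubmonoidClass.coe_pow, Subgroup.coe_mul, e', show ((Z : c.C) : G) = c.z from rfl,
            ← mul_assoc, hc.z_sq, one_mul, hP3 q hq]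
          rfl }
  have hC : ∀ {a : G}, Commute a t → a ∈ c.C := fun {a} h => by
    rw [htP, mem_centralizer_singleton_iff]; exact h.eq
  set z' : c.C := ⟨z, hC W.cz⟩
  set e' : c.C := ⟨e, hC W.ce⟩
  have hz' : z' = Z := by
    have h11 : e' ^ 11 = 1 := Subtype.ext (by
      rw [SubmonoidClass.coe_pow]
      show e ^ 11 = 1
      rw [← W.ord_e, pow_orderOf_eq_one])
    have hfe : f e' ≠ 1 := fun h => by
      rcases X.ker_three e' h with h3 | h3
      · have h1 := orderOf_dvd_iff_pow_eq_one.2 (congrArg Subtype.val h3 : e ^ 3 = 1)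
        rw [W.ord_e] at h1; norm_num at h1
      · have h6 : e' ^ 6 = 1 := by
          have := congrArg (· ^ 2) h3
          simp only [one_pow] at this
          rw [← pow_mul, (X.z_comm e').mul_pow, show 3 * 2 = 2 * 3 from rfl, pow_mul, X.z_sq, one_pow,
            one_mul] at this
          exact this
        have h1 := orderOf_dvd_iff_pow_eq_one.2 (congrArg Subtype.val h6 : e ^ 6 = 1)
        rw [W.ord_e] at h1; norm_num at h1
    haveI : Fact (Nat.Prime 11) := ⟨by norm_num⟩
    have ho : orderOf (f e') = 11 := orderOf_eq_prime (by rw [← map_pow, h11, map_one]) hfe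
    have hmem : f z' ∈ zpowers (f e') := by
      rw [← H69.JFourSylow.eleven_aut ho, mem_centralizer_singleton_iff, ← map_mul, ← map_mul]
      exact congrArg f (Subtype.ext W.ze.eq)
    obtain ⟨j, hj⟩ := mem_zpowers_iff.1 hmem
    have hz11 : f z' ^ 11 = 1 := by
      rw [← hj, ← zpow_natCast, ← zpow_mul, mul_comm, zpow_mul, zpow_natCast, ← map_pow, h11, map_one,
        one_zpow]
    have hz2 : z' ^ 2 = 1 := Subtype.ext W.z_sq
    have hfz : f z' = 1 := by
      rw [show 11 = 2 * 5 + 1 from rfl, pow_succ, pow_mul, ← map_pow, hz2, map_one, one_pow, one_mul] at hz11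
      exact hz11
    exact (X.low_ker hfz (n := 1) hz2).resolve_left fun h => W.z_ne (congrArg Subtype.val h)
  rw [← hz'] at X
  have hv : ∀ {a b : G} (ha : a ∈ c.C) (hb : b ∈ c.C), ¬ IsConj a b →
      ¬ IsConj (⟨a, ha⟩ : c.C) ⟨b, hb⟩ := fun _ _ h h' => by
    obtain ⟨g, hg⟩ := isConj_iff.1 h'
    exact h (isConj_iff.2 ⟨g, congrArg Subtype.val hg⟩)
  refine X.lowCount_three (fun a ha n hn => hr a ha n hn) hcent
    (i := ⟨i, hC W.ci⟩) (u := ⟨x, hC W.cu⟩) (v := ⟨v, hC W.cv⟩) (w := ⟨w, hC W.cw⟩)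
    (k := ⟨k, hC W.ck⟩) (Subtype.ext W.i_sq) (fun h => W.i_ne (congrArg Subtype.val h))
    (fun h => W.i_ne_z (congrArg Subtype.val h)) (Subtype.ext W.u_four)
    (fun h => W.u_two (congrArg Subtype.val h)) (Subtype.ext W.kuk) (Subtype.ext W.v_four)
    (fun h => W.v_two (congrArg Subtype.val h)) (Subtype.ext W.w_eight)
    (fun h => W.w_four (congrArg Subtype.val h)) (fun h => W.w_four_z (congrArg Subtype.val h))
    (hv _ _ W.ni) (hv _ _ W.nv) (hv _ _ W.nuv) (hv _ _ W.nuvz)

theorem topCount_three [IsSimpleGroup G] (hG : ¬ IsMulCommutative G) (hJ : Cfsg.IsOfJankoFourType G) :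
    topCount G 3 = 9 := by
  classical
  haveI : Fact (Nat.Prime 3) := ⟨Nat.prime_three⟩
  have hd := H85.AutM22.autData
  obtain ⟨z₀, P, hW⟩ := hJ
  obtain ⟨c, -, -, -, hc⟩ := exists_ctx hW
  obtain ⟨t, z, e, i, x, v, w, k, W⟩ := exists_witness (H99.J4U.isoJ4 hG ⟨P, hW⟩)
  obtain ⟨q, hq⟩ := exists_prime_orderOf_dvd_card' (G := c.P) 3 (by rw [hc.cardP])
  have hq3 : orderOf (q : G) = 3 := by rw [Subgroup.orderOf_coe]; exact hq
  obtain ⟨g, hg⟩ := isConj_iff.1 (hc.one_class hd hG hq3 W.ord_t)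
  have hd' := hc.conj g
  have htP : t ∈ (c.conj g).P := ⟨q, q.2, hg⟩
  have hPt : zpowers t = (c.conj g).P := Subgroup.eq_of_le_of_card_ge (zpowers_le.2 htP)
    (by rw [Nat.card_zpowers, W.ord_t, hd'.cardP])
  have hC : (c.conj g).C = centralizer ({t} : Set G) := by
    rw [← hd'.cent_P hd hG, ← hPt]
    exact cent_zpowers_singleton t
  rw [topCount_eq Nat.prime_three ?_ (fun _ : Unit => t) (fun _ => W.ord_t) (fun _ _ _ => rfl)
    (fun a ha => ⟨(), hc.one_class hd hG W.ord_t ha⟩)]
  · rw [Finset.univ_unique, Finset.sum_singleton, ← hC]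
    exact lowCount_witness (c.conj g) hd' W hC
  · intro a _ h9
    obtain ⟨S0⟩ : Nonempty (Sylow 3 c.C) := inferInstance
    have hR := hc.rThree_of_sylow hd S0
    obtain ⟨T, hT⟩ := hc.R_sylow hd hR hG
    have hexp := hc.R_exponent hd hR
    rw [← hT] at hexp
    set b := a ^ (orderOf a / 3 ^ 2) with hb
    have hb9 : orderOf b = 3 ^ 2 := orderOf_pow_orderOf_div (orderOf_pos a).ne' h9
    obtain ⟨U, hU⟩ := (IsPGroup.of_card (G := zpowers b) (n := 2)
      (by rw [Nat.card_zpowers, hb9])).exists_le_sylow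
    obtain ⟨m, hm⟩ := MulAction.exists_smul_eq G U T
    have hbT : m * b * m⁻¹ ∈ (T : Subgroup G) := by
      rw [← hm, Sylow.coe_subgroup_smul]
      exact Subgroup.smul_mem_pointwise_smul _ (MulAut.conj m) _ (hU (mem_zpowers b))
    have h3 : (m * b * m⁻¹) ^ 3 = 1 := by
      have h := Monoid.pow_exponent_eq_one (⟨_, hbT⟩ : (T : Subgroup G))
      rw [hexp] at h
      exact congrArg Subtype.val h
    rw [conj_pow, conj_eq_one_iff] at h3
    have := orderOf_dvd_iff_pow_eq_one.2 h3
    rw [hb9] at this; norm_num at this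

end Cfsg.Agent.H54.Classes
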