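import Cfsg.Agent.H54.JFour.Classes.Parts
import Cfsg.Agent.H54.JFour.Classes.FiveClasses
import Cfsg.Agent.H54.JFour.Classes.ThreeTop
import Cfsg.Agent.H54.JFour.Classes.ElevenTop
import Cfsg.Agent.S5569
import Cfsg.Agent.S5577
import Cfsg.Agent.H99.J4U.Final

/-!
The classes of a group of Janko-four type, but for those of 2-elements.
-/

set_option autoImplicit false

namespace Cfsg.Agent.H54.Classes

open Subgroup Cfsg.Agent.H43.JFour Cfsg.Agent.H43.JFour.Ctx

universe u

variable {G : Type u} [Group G] [Finite G]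

/-- The prime divisors of the order. -/
theorem prime_dvd_order {p : ℕ} (hp : p.Prime) (h : p ∣ 86775571046077562880) :
    p ∈ ({2, 3, 5, 7, 11, 23, 29, 31, 37, 43} : Finset ℕ) := by
  rw [show (86775571046077562880 : ℕ) = 2 ^ 21 * 3 ^ 3 * 5 * 7 * 11 ^ 3 * 23 * 29 * 31 * 37 * 43 by
    norm_num] at h
  have hq : ∀ {q : ℕ}, q.Prime → p ∣ q → p = q := fun hq hd => (Nat.prime_dvd_prime_iff_eq hp hq).1 hd
  simp only [Finset.mem_insert, Finset.mem_singleton]
  rcases (Nat.Prime.dvd_mul hp).1 h with h | h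
  rotate_left
  · have := hq (by norm_num) h; omega
  rcases (Nat.Prime.dvd_mul hp).1 h with h | h
  rotate_left
  · have := hq (by norm_num) h; omega
  rcases (Nat.Prime.dvd_mul hp).1 h with h | h
  rotate_left
  · have := hq (by norm_num) h; omega
  rcases (Nat.Prime.dvd_mul hp).1 h with h | h
  rotate_left
  · have := hq (by norm_num) h; omega
  rcases (Nat.Prime.dvd_mul hp).1 h with h | h
  rotate_left
  · have := hq (by norm_num) h; omega
  rcases (Nat.Prime.dvd_mul hp).1 h with h | h
  rotate_left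
  · have := hq (by norm_num) (hp.dvd_of_dvd_pow h); omega
  rcases (Nat.Prime.dvd_mul hp).1 h with h | h
  rotate_left
  · have := hq (by norm_num) h; omega
  rcases (Nat.Prime.dvd_mul hp).1 h with h | h
  rotate_left
  · have := hq (by norm_num) h; omega
  rcases (Nat.Prime.dvd_mul hp).1 h with h | h
  · have := hq Nat.prime_two (hp.dvd_of_dvd_pow h); omega
  · have := hq Nat.prime_three (hp.dvd_of_dvd_pow h); omega

/-- Sixty-two classes, given the nine classes of nontrivial 2-elements. -/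
theorem card_classes_of_two [IsSimpleGroup G] (hG : ¬ IsMulCommutative G) (hJ : Cfsg.IsOfJankoFourType G)
    (h2 : topCount G 2 = 9) : Nat.card (ConjClasses G) = 62 := by
  classical
  have h3 := topCount_three hG hJ
  have h11 := topCount_eleven hG hJ
  obtain ⟨h23, h29, h31, h37, h43⟩ := S5577.result hG hJ
  obtain ⟨z, hz⟩ := hJ
  have hcard := H99.J4U.card_eq hG hz
  obtain ⟨l23, l29, l31, l37, l43⟩ := topCount_large h23 h29 h31 h37 h43 (by rw [hcard]; norm_num)
  obtain ⟨P, hP⟩ := hz
  obtain ⟨c, rfl, -, -, hc⟩ := exists_ctx hP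
  have hH := hc.card_H
  rw [H85.AutM22.autData.card] at hH
  haveI : Fact (Nat.Prime 5) := ⟨by norm_num⟩
  haveI : Fact (Nat.Prime 7) := ⟨by norm_num⟩
  obtain ⟨a, ha⟩ := exists_prime_orderOf_dvd_card' (G := c.H) 5 (by rw [hH]; norm_num)
  obtain ⟨b, hb⟩ := exists_prime_orderOf_dvd_card' (G := c.H) 7 (by rw [hH]; norm_num)
  have h5 := topCount_five_eq hG ⟨P, hP⟩ (fun t ht hn => S5569.result hG c.z ⟨P, hP⟩ t ht hn)
    (zpowers (a : G)) (by rw [Nat.card_zpowers, Subgroup.orderOf_coe, ha]) (zpowers_le.2 a.2)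
  have h7 := topCount_seven hG ⟨P, hP⟩ (zpowers (b : G))
    (by rw [Nat.card_zpowers, Subgroup.orderOf_coe, hb]) (zpowers_le.2 b.2)
  rw [card_classes {2, 3, 5, 7, 11, 23, 29, 31, 37, 43}
    (by intro p hp; simp only [Finset.mem_insert, Finset.mem_singleton] at hp
        rcases hp with rfl | rfl | rfl | rfl | rfl | rfl | rfl | rfl | rfl | rfl <;> norm_num)
    (fun p hp hd => prime_dvd_order hp (hcard ▸ hd))]
  simp only [Finset.sum_insert, Finset.mem_insert, Finset.mem_singleton, Finset.sum_singleton,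
    Nat.reduceEqDiff, or_self, not_false_eq_true, h2, h3, h5, h7, h11, l23, l29, l31, l37, l43, Nat.reduceAdd]

end Cfsg.Agent.H54.Classes
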